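import Mathlib

/-!
Fusion obstruction: if the normalising elements of subgroups of an abelian subgroup `T` of index prime
to `ℓ` act with exponent `m`, then no section has an element of order `ℓ` raised to a power `r` with
`r ^ m ≢ 1 (mod ℓ)` by conjugation.
-/

namespace Cfsg.Lib.Chev.G2Alt

open Subgroup

/-- A lift of prime power order of an element of prime order, normalised by a lift of a normalising element. -/
theorem exists_normalized_lift {H A : Type*} [Group H] [Finite H] [Group A] (π : H →* A)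
    (hπ : Function.Surjective π) {ℓ : ℕ} [hℓ : Fact ℓ.Prime] {a s : A} (ha : orderOf a = ℓ) {r : ℕ}
    (hs : s * a * s⁻¹ = a ^ r) (hr : ¬ ℓ ∣ r) :
    ∃ P : Subgroup H, IsPGroup ℓ P ∧ ∃ y : H, (∀ p ∈ P, y * p * y⁻¹ ∈ P) ∧
      π y * a * (π y)⁻¹ = a ^ r ∧ ∃ p ∈ P, π p = a := by
  let M : Subgroup H := (normalizer (zpowers a : Set A)).comap π
  let K : Subgroup M := ((zpowers a).comap π).subgroupOf M
  have hKn : K.Normal := by
    refine ⟨fun k hk g => ?_⟩
    show π ((g * k * g⁻¹ : M) : H) ∈ zpowers a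
    push_cast
    rw [map_mul, map_mul, map_inv]
    exact (mem_normalizer_iff.mp g.2 _).mp hk
  obtain ⟨y₀, hy₀⟩ := hπ s
  have hsN : s ∈ normalizer (zpowers a : Set A) := by
    have hap : a ^ r ∈ zpowers a := pow_mem (mem_zpowers a) r
    have hfin : Finite (zpowers a) := Nat.finite_of_card_ne_zero (by
      rw [Nat.card_zpowers, ha]; exact hℓ.out.ne_zero)
    rw [mem_normalizer_iff]
    intro x
    constructor
    · intro hx
      obtain ⟨i, rfl⟩ := mem_zpowers_iff.mp hx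
      rw [← conj_zpow, hs]
      exact zpow_mem hap i
    · intro hx
      have hgen : zpowers (a ^ r) = zpowers a := by
        refine Subgroup.eq_of_le_of_card_ge (zpowers_le.mpr hap) ?_
        rw [Nat.card_zpowers, Nat.card_zpowers, orderOf_pow' _ (show r ≠ 0 by rintro rfl; exact hr (dvd_zero ℓ)), ha,
          ((Nat.coprime_iff_gcd_eq_one).mp (hℓ.out.coprime_iff_not_dvd.mpr hr)), Nat.div_one]
      rw [← hgen] at hx
      obtain ⟨i, hi⟩ := mem_zpowers_iff.mp hx
      rw [← hs, conj_zpow] at hi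
      rw [← mul_left_cancel (mul_right_cancel hi)]
      exact zpow_mem (mem_zpowers a) i
  let y₁ : M := ⟨y₀, show π y₀ ∈ normalizer (zpowers a : Set A) by rw [hy₀]; exact hsN⟩
  obtain ⟨P⟩ : Nonempty (Sylow ℓ K) := inferInstance
  have hfr := Sylow.normalizer_sup_eq_top P
  obtain ⟨y, hy, k, hk, hyk⟩ := mem_sup_of_normal_right.mp (hfr.ge (mem_top y₁))
  refine ⟨((P : Subgroup K).map K.subtype).map M.subtype,
    (P.2.map _).map _, (y : H), ?_, ?_, ?_⟩
  · rintro _ ⟨q, hq, rfl⟩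
    exact ⟨y * q * y⁻¹, (mem_normalizer_iff.mp hy q).mp hq, by simp⟩
  · have hk' : π (k : H) ∈ zpowers a := hk
    obtain ⟨i, hi⟩ := mem_zpowers_iff.mp hk'
    have hyk' : π (y : H) = s * (a ^ i)⁻¹ := by
      rw [hi, ← hy₀, show y₀ = ((y * k : M) : H) by rw [hyk], Subgroup.coe_mul, map_mul,
        mul_inv_cancel_right]
    rw [hyk', show s * (a ^ i)⁻¹ * a * (s * (a ^ i)⁻¹)⁻¹ = s * ((a ^ i)⁻¹ * a * a ^ i) * s⁻¹ by group,
      ((Commute.refl a).zpow_left i).inv_left.eq, inv_mul_cancel_right, hs]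
  · let f : K →* zpowers a :=
      { toFun := fun q => ⟨π ((q : M) : H), q.2⟩
        map_one' := by ext; simp
        map_mul' := fun _ _ => by ext; simp }
    have hf : Function.Surjective f := by
      rintro ⟨x, hx⟩
      obtain ⟨g, rfl⟩ := hπ x
      exact ⟨⟨⟨g, show π g ∈ normalizer (zpowers a : Set A) from le_normalizer hx⟩, hx⟩, rfl⟩
    have htop : ((P.mapSurjective hf : Sylow ℓ (zpowers a)) : Subgroup (zpowers a)) = ⊤ := by
      have : IsPGroup ℓ (⊤ : Subgroup (zpowers a)) :=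
        (IsPGroup.of_card (n := 1) (by rw [Nat.card_zpowers, ha, pow_one])).to_subgroup ⊤
      exact ((P.mapSurjective hf).3 this le_top).symm
    rw [Sylow.coe_mapSurjective] at htop
    obtain ⟨q, hq, hqa⟩ := htop.ge (mem_top (⟨a, mem_zpowers a⟩ : zpowers a))
    exact ⟨_, ⟨_, ⟨q, hq, rfl⟩, rfl⟩, congrArg Subtype.val hqa⟩

theorem no_fusion_section {G H A : Type*} [Group G] [Finite G] [Group H] [Finite H] [Group A]
    (T : Subgroup G) {ℓ : ℕ} [hℓ : Fact ℓ.Prime] (hidx : ¬ ℓ ∣ T.index) {m : ℕ}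
    (hfus : ∀ g x : G, (∀ i : ℕ, g ^ i * x * (g ^ i)⁻¹ ∈ T) → g ^ m * x * (g ^ m)⁻¹ = x)
    (f : H →* G) (hf : Function.Injective f) (π : H →* A) (hπ : Function.Surjective π) {a s : A}
    (ha : orderOf a = ℓ) {r : ℕ} (hs : s * a * s⁻¹ = a ^ r) (hr : r ^ m % ℓ ≠ 1) (hr0 : ¬ ℓ ∣ r) :
    False := by
  obtain ⟨P, hP, y, hy, hya, p, hp, hpa⟩ := exists_normalized_lift π hπ ha hs hr0
  obtain ⟨t, ht⟩ : (MulAction.fixedPoints (P.map f) (G ⧸ T)).Nonempty :=
    (hP.map f).nonempty_fixed_point_of_prime_not_dvd_card _ (by rwa [← Subgroup.index_eq_card])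
  induction t using QuotientGroup.induction_on with
  | H t =>
  have hin : ∀ q ∈ P, t⁻¹ * f q * t ∈ T := by
    intro q hq
    have h1 := QuotientGroup.eq.mp (ht ⟨f q, q, hq, rfl⟩).symm
    simpa [mul_assoc] using h1
  have hpow : ∀ i : ℕ, y ^ i * p * (y ^ i)⁻¹ ∈ P := by
    intro i
    induction i with
    | zero => simpa using hp
    | succ i ih =>
      have := hy _ ih
      simpa [pow_succ', mul_assoc] using this
  have h := hfus (t⁻¹ * f y * t) (t⁻¹ * f p * t) fun i => by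
    have := hin _ (hpow i)
    rw [map_mul, map_mul, map_inv, map_pow] at this
    rwa [show (t⁻¹ * f y * t) ^ i = t⁻¹ * f y ^ i * t by
        simpa using conj_pow (a := t⁻¹) (b := f y) (i := i),
      show t⁻¹ * f y ^ i * t * (t⁻¹ * f p * t) * (t⁻¹ * f y ^ i * t)⁻¹ =
        t⁻¹ * (f y ^ i * f p * (f y ^ i)⁻¹) * t by group]
  rw [show (t⁻¹ * f y * t) ^ m = t⁻¹ * f y ^ m * t by
      simpa using conj_pow (a := t⁻¹) (b := f y) (i := m),
    show t⁻¹ * f y ^ m * t * (t⁻¹ * f p * t) * (t⁻¹ * f y ^ m * t)⁻¹ =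
      t⁻¹ * f (y ^ m * p * (y ^ m)⁻¹) * t by rw [map_mul, map_mul, map_inv, map_pow]; group] at h
  have h2 := congrArg π (hf (mul_left_cancel (mul_right_cancel h)))
  rw [map_mul, map_mul, map_inv, map_pow, hpa] at h2
  have hpi : ∀ i : ℕ, π y ^ i * a * (π y ^ i)⁻¹ = a ^ r ^ i := by
    intro i
    induction i with
    | zero => simp
    | succ i ih =>
      rw [pow_succ', show π y * π y ^ i * a * (π y * π y ^ i)⁻¹ =
        π y * (π y ^ i * a * (π y ^ i)⁻¹) * (π y)⁻¹ by group, ih, ← conj_pow, hya, ← pow_mul,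
        ← pow_succ']
  rw [hpi] at h2
  have h3 : r ^ m % ℓ = 1 % ℓ := by
    have := (pow_eq_pow_iff_modEq (x := a) (m := r ^ m) (n := 1)).mp (by rw [h2, pow_one])
    rw [ha] at this
    exact this.symm
  rw [Nat.mod_eq_of_lt hℓ.out.one_lt] at h3
  exact hr h3

end Cfsg.Lib.Chev.G2Alt
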