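import Cfsg.Agent.Lib.Chev.NormalForm
import Cfsg.Agent.Lib.Chev.Weyl
import Cfsg.Agent.Lib.Chev.TorusLang

/-!
Fusion in the diagonal subgroup, and traces of monomial elements.
-/

set_option autoImplicit false
set_option linter.unusedSectionVars false

namespace Cfsg.Lib.Chev.G2Alt

open Cfsg.Lie
open scoped Matrix

variable {D : ChevalleyDatum} {T : Tbl} {F : Type*} [Field F] (C : Cert D T) (K : FullCert D T)
include C K

/-- One monomial element induces every fusion that an element induces inside the diagonal subgroup. -/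
theorem torus_fusion {g : GL D.Idx F} (hg' : g ∈ D.group F) :
    ∃ n ∈ D.monomialSubgroup F, ∀ x ∈ D.diagonalSubgroup F,
      g * x * g⁻¹ ∈ D.diagonalSubgroup F → g * x * g⁻¹ = n * x * n⁻¹ := by
  obtain ⟨u, hu, n, hn, v, hv, rfl⟩ := bruhat C K hg'
  refine ⟨n, hn, fun h₁ h1 h2 => ?_⟩
  generalize hc : u * n * v * h₁ * (u * n * v)⁻¹ = h₂ at h2
  have hd := (conj_mem_diag C hn h1).1
  generalize hd' : n * h₁ * n⁻¹ = d at hd
  rw [mul_inv_eq_iff_eq_mul] at hc
  have hnd : n * h₁ = d * n := by rw [← hd', inv_mul_cancel_right]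
  have hconj : ∀ {k x : GL D.Idx F}, k ∈ D.diagonalSubgroup F → x ∈ D.posUnipotent F →
      k * x * k⁻¹ ∈ D.posUnipotent F := fun hk hx =>
    (Subgroup.mem_normalizer_iff.1 (diag_le_normalizer C hk) _).1 hx
  have hv' : h₁⁻¹ * v * h₁ * v⁻¹ ∈ D.posUnipotent F := by
    refine mul_mem ?_ (inv_mem hv)
    simpa using hconj (inv_mem h1) hv
  have hu' : d⁻¹ * (u⁻¹ * (h₂ * u * h₂⁻¹)) * d ∈ D.posUnipotent F := by
    simpa using hconj (inv_mem hd) (mul_mem (inv_mem hu) (hconj h2 hu))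
  have key : d⁻¹ * (u⁻¹ * (h₂ * u * h₂⁻¹)) * d * (d⁻¹ * h₂) * n = n * (h₁⁻¹ * v * h₁ * v⁻¹) := by
    calc d⁻¹ * (u⁻¹ * (h₂ * u * h₂⁻¹)) * d * (d⁻¹ * h₂) * n
        = d⁻¹ * u⁻¹ * (h₂ * (u * n * v)) * v⁻¹ := by group
      _ = d⁻¹ * u⁻¹ * (u * n * v * h₁) * v⁻¹ := by rw [hc]
      _ = d⁻¹ * (n * h₁) * (h₁⁻¹ * v * h₁ * v⁻¹) := by group
      _ = _ := by rw [hnd]; group
  exact (inv_mul_eq_one.1 (conj_diag_eq_one C hu' hv' (mul_mem (inv_mem hd) h2) hn key)).symm

/-- A monomial element is a Weyl word times a diagonal one, the word from a complete list. -/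
theorem monomial_word {Ls : List WLevel} (hW : chkWeyl T Ls = true) {n : GL D.Idx F}
    (hn : n ∈ D.monomialSubgroup F) :
    ∃ u ∈ allW (nth ([], []) Ls) D.rank, IsWord D u ∧ ∃ d ∈ D.diagonalSubgroup F, n = wnu C F u * d := by
  obtain ⟨w, hw, h, hh, rfl⟩ := (mem_monomial C).1 hn
  obtain ⟨u, hu, hperm⟩ := allW_complete C K hW _ le_rfl w hw
  have huw : IsWord D u := (allW_below C K hW _ le_rfl _ hu).isWord le_rfl
  exact ⟨u, hu, huw, (wnu C F u)⁻¹ * wnu C F w * h,
    mul_mem (same_of_perm C K huw hw fun k hk => hperm _ (C.spec.simp_lt k hk)) hh, by group⟩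

theorem wnu_mem_diag {w : List ℕ} (hw : IsWord D w)
    (h : ∀ k < D.rank, wperm T w (T.simp' k) = T.simp' k) : wnu C F w ∈ D.diagonalSubgroup F := by
  have := same_of_perm (F := F) C K (v := []) (w := w) (fun i hi => absurd hi List.not_mem_nil) hw
    fun k hk => (h k hk).symm
  simpa [wnu] using this

omit K in
theorem monomial_pow {u : List ℕ} (hu : IsWord D u) {d : GL D.Idx F} (hd : d ∈ D.diagonalSubgroup F) :
    ∀ m : ℕ, IsWord D (List.replicate m u).flatten ∧
      ∃ d' ∈ D.diagonalSubgroup F, (wnu C F u * d) ^ m = wnu C F (List.replicate m u).flatten * d' := by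
  intro m
  induction m with
  | zero => exact ⟨fun i hi => by simp at hi, 1, one_mem _, by simp [wnu]⟩
  | succ m ih =>
    obtain ⟨hw, d', hd', he⟩ := ih
    rw [List.replicate_succ, List.flatten_cons]
    refine ⟨hu.append hw, ((wnu C F (List.replicate m u).flatten)⁻¹ * d *
      wnu C F (List.replicate m u).flatten) * d', mul_mem (conj_mem_diag C (wnu_mem C hw) hd).2 hd', ?_⟩
    rw [pow_succ', he, wnu_append]
    group

omit K in
theorem diag_commute {x y : GL D.Idx F} (hx : x ∈ D.diagonalSubgroup F) (hy : y ∈ D.diagonalSubgroup F) :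
    x * y = y * x := by
  rw [← torusHom_range C] at hx hy
  obtain ⟨a, rfl⟩ := hx
  obtain ⟨b, rfl⟩ := hy
  rw [← map_mul, ← map_mul, mul_comm]

/-- If the Weyl group has exponent dividing `m`, conjugations inside the diagonal subgroup have
exponent `m`. -/
theorem fusion_exponent {Ls : List WLevel} (hW : chkWeyl T Ls = true) {m : ℕ}
    (hm : ∀ u ∈ allW (nth ([], []) Ls) D.rank, ∀ k < D.rank,
      wperm T (List.replicate m u).flatten (T.simp' k) = T.simp' k)
    (g x : ↥(D.group F))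
    (h : ∀ i : ℕ, g ^ i * x * (g ^ i)⁻¹ ∈ (D.diagonalSubgroup F).subgroupOf (D.group F)) :
    g ^ m * x * (g ^ m)⁻¹ = x := by
  obtain ⟨n, hn, hfus⟩ := torus_fusion C K g.2
  have hx : ∀ i : ℕ, ((g ^ i * x * (g ^ i)⁻¹ : ↥(D.group F)) : GL D.Idx F) = n ^ i * x * (n ^ i)⁻¹ := by
    intro i
    induction i with
    | zero => simp
    | succ i ih =>
      have h1 : ((g ^ i * x * (g ^ i)⁻¹ : ↥(D.group F)) : GL D.Idx F) ∈ D.diagonalSubgroup F := h i
      have h2 : ((g ^ (i + 1) * x * (g ^ (i + 1))⁻¹ : ↥(D.group F)) : GL D.Idx F) ∈ D.diagonalSubgroup F :=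
        h (i + 1)
      rw [show g ^ (i + 1) * x * (g ^ (i + 1))⁻¹ = g * (g ^ i * x * (g ^ i)⁻¹) * g⁻¹ by
        rw [pow_succ']; group, Subgroup.coe_mul, Subgroup.coe_mul, Subgroup.coe_inv] at h2 ⊢
      rw [hfus _ h1 h2, ih, pow_succ']
      group
  obtain ⟨u, hu, huw, d, hd, rfl⟩ := monomial_word C K hW hn
  obtain ⟨hw, d', hd', he⟩ := monomial_pow C huw hd m
  have hnm : (wnu C F u * d) ^ m ∈ D.diagonalSubgroup F := by
    rw [he]; exact mul_mem (wnu_mem_diag C K hw (hm u hu)) hd'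
  have hx0 : (x : GL D.Idx F) ∈ D.diagonalSubgroup F := Subgroup.mem_subgroupOf.1 (by simpa using h 0)
  apply Subtype.ext
  rw [hx m, diag_commute C hnm hx0, mul_inv_cancel_right]

omit K

/-- The action of a reflection on the toral coordinates. -/
def cartBlock (D : ChevalleyDatum) (T : Tbl) (i : ℕ) : Matrix (Fin D.rank) (Fin D.rank) ℤ :=
  Matrix.of fun a c => (if a = c then 1 else 0) - if a.val = i then T.cartan c (T.simp' i) else 0

theorem wnu_entries {w : List ℕ} (hw : IsWord D w) :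
    (∀ a c : Fin D.rank, (wnu C F w : Matrix D.Idx D.Idx F) (Sum.inl a) (Sum.inl c) =
      (((w.map (cartBlock D T)).prod a c : ℤ) : F)) ∧
    ∀ s t : Fin D.nroots, wperm T w s ≠ t →
      (wnu C F w : Matrix D.Idx D.Idx F) (Sum.inr t) (Sum.inr s) = 0 := by
  induction w with
  | nil =>
    refine ⟨fun a c => ?_, fun s t h => ?_⟩
    · simp [wnu, Matrix.one_apply]
    · have : t ≠ s := fun e => h (by simp [wperm, e])
      simp [wnu, Matrix.one_apply, this]
  | cons i w ih =>
    obtain ⟨h1, h2⟩ := ih hw.tail.2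
    rw [wnu_cons, Units.val_mul, coe_nu C hw.tail.1]
    refine ⟨fun a c => ?_, fun s t h => ?_⟩
    · rw [refM_mul_inl C.spec hw.tail.1, List.map_cons, List.prod_cons, Matrix.mul_apply]
      simp only [cartBlock, Matrix.of_apply, sub_mul, Finset.sum_sub_distrib, ite_mul, one_mul, zero_mul,
        Finset.sum_ite_eq, Finset.mem_univ, if_true, h1]
      split_ifs with ha <;> simp
    · rw [refM_mul_inr C.spec hw.tail.1, h2 s ⟨_, _⟩ ?_, mul_zero]
      intro e
      refine h ?_
      show T.refl' i (wperm T w s) = t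
      rw [e, C.spec.refl_refl i hw.tail.1 t t.2]

/-- The trace of a monomial element fixing no root. -/
theorem trace_monomial {w : List ℕ} (hw : IsWord D w) (hfree : ∀ s < D.nroots, wperm T w s ≠ s)
    (c : Fin D.rank → Fˣ) :
    Matrix.trace ((wnu C F w * torusHom D T F c : GL D.Idx F) : Matrix D.Idx D.Idx F) =
      ((Matrix.trace (w.map (cartBlock D T)).prod : ℤ) : F) := by
  obtain ⟨h1, h2⟩ := wnu_entries (F := F) C hw
  rw [Units.val_mul, coe_torusHom, scal, Matrix.trace, Fintype.sum_sum_type]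
  simp only [Matrix.diag_apply, Matrix.mul_diagonal, Sum.elim_inl, mul_one, h1, Sum.elim_inr]
  rw [Finset.sum_eq_zero (f := fun s : Fin D.nroots => _)
    (fun s _ => by rw [h2 s s (hfree s s.2), zero_mul]), add_zero, Matrix.trace, Int.cast_sum]
  rfl

omit C in
theorem trace_torus (c : Fin D.rank → Fˣ) :
    Matrix.trace ((torusHom D T F c : GL D.Idx F) : Matrix D.Idx D.Idx F) =
      (D.rank : F) + ∑ s ∈ Finset.range D.nroots, chr T D (extend' c) s := by
  rw [coe_torusHom, scal, Matrix.trace_diagonal, Fintype.sum_sum_type, Finset.sum_range]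
  simp

end Cfsg.Lib.Chev.G2Alt
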