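import Mathlib
import Cfsg.Agent.Lib.Coprime.Action
import Cfsg.Agent.Lib.PGroup.Basic

/-!
Lifting an elementary group of order nine and its normalising elements through a section.
-/

namespace Cfsg.Lib.Chev.G2Alt

open Subgroup
open scoped commutatorElement

universe u

/-- A minimal preimage is perfect, and its kernel is nilpotent. -/
theorem exists_minimal_cover {H A : Type*} [Group H] [Finite H] [Group A] [Finite A] [IsSimpleGroup A]
    (hA : ¬ IsMulCommutative A) (π : H →* A) (hπ : Function.Surjective π) :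
    ∃ M : Subgroup H, Function.Surjective (π.comp M.subtype) ∧
      commutator M = ⊤ ∧ Group.IsNilpotent (π.comp M.subtype).ker ∧
      ∀ C : Subgroup M, C.map (π.comp M.subtype) = ⊤ → C = ⊤ := by
  obtain ⟨M, hM, hmin⟩ : ∃ M : Subgroup H, M.map π = ⊤ ∧
      ∀ M' : Subgroup H, M'.map π = ⊤ → M' ≤ M → M' = M := by
    obtain ⟨M, hM, hmin⟩ := (Set.toFinite {M : Subgroup H | M.map π = ⊤}).exists_minimalFor id _
      ⟨⊤, by simpa [← MonoidHom.range_eq_map] using MonoidHom.range_eq_top.2 hπ⟩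
    exact ⟨M, hM, fun M' h1 h2 => le_antisymm h2 (hmin h1 h2)⟩
  set f := π.comp M.subtype with hf
  have hfs : Function.Surjective f := by
    rw [← MonoidHom.range_eq_top, MonoidHom.range_comp, range_subtype, hM]
  have hfull : ∀ C : Subgroup M, C.map f = ⊤ → C = ⊤ := by
    intro C hC
    have h1 := hmin (C.map M.subtype) (by rw [map_map]; exact hC) (map_subtype_le _)
    rw [eq_top_iff]
    intro x _
    obtain ⟨y, hy, hyx⟩ := h1.ge x.2
    rwa [← Subtype.ext hyx]
  refine ⟨M, hfs, hfull _ ?_, ?_, hfull⟩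
  · rcases (Subgroup.Normal.map (inferInstance : (commutator M).Normal) f hfs).eq_bot_or_eq_top with h | h
    · exfalso
      refine hA ⟨⟨fun x y => ?_⟩⟩
      obtain ⟨a, rfl⟩ := hfs x
      obtain ⟨b, rfl⟩ := hfs y
      have hc : ⁅a, b⁆ ∈ commutator M := commutator_mem_commutator (mem_top a) (mem_top b)
      have := (eq_bot_iff_forall _).1 h _ (mem_map_of_mem f hc)
      rwa [map_commutatorElement, commutatorElement_eq_one_iff_mul_comm] at this
    · exact h
  · have hle : f.ker ≤ frattini M := by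
      refine le_iInf₂ fun C hC => ?_
      by_contra hnle
      have : C ⊔ f.ker = ⊤ := hC.2 _ (lt_of_le_of_ne le_sup_left fun h => hnle (h ▸ le_sup_right))
      refine hC.1 (hfull C ?_)
      have h2 := congrArg (Subgroup.map f) this
      rwa [Subgroup.map_sup, (Subgroup.map_eq_bot_iff f.ker).2 le_rfl, sup_bot_eq, ← MonoidHom.range_eq_map,
        MonoidHom.range_eq_top.2 hfs] at h2
    haveI := frattini_nilpotent (G := M)
    exact Group.nilpotent_of_mulEquiv (subgroupOfEquivOfLe hle)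

/-- A group acting on a three-group with small Frattini quotient has trivially acting seven-elements. -/
theorem seven_centralizes {M : Type u} [Group M] [Finite M] (P : Subgroup M) [P.Normal]
    (hP : IsPGroup 3 P) (hidx : (frattini P).index ≤ 27) {h : M} (hh : IsPGroup 7 (zpowers h)) :
    h ∈ centralizer (P : Set M) := by
  haveI : Fact (Nat.Prime 3) := ⟨Nat.prime_three⟩
  haveI : Fact (Nat.Prime 7) := ⟨by norm_num⟩
  have hcop : (Nat.card (zpowers h)).Coprime (Nat.card P) := by
    obtain ⟨a, ha⟩ := IsPGroup.iff_card.1 hh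
    obtain ⟨b, hb⟩ := IsPGroup.iff_card.1 hP
    rw [ha, hb]
    exact Nat.Coprime.pow a b (by norm_num)
  refine Lib.Coprime.le_centralizer_of_commutator_le_frattini
    (fun z _ => by rw [normalizer_eq_top_iff.2 inferInstance]; exact mem_top z) hcop
    (Or.inr (have := hP.isNilpotent; inferInstance)) ?_ (mem_zpowers h)
  -- the action on the quotient
  let conjZ : zpowers h →* MulAut P := MulAut.conjNormal.comp (zpowers h).subtype
  have hinv : ∀ (z : zpowers h) (x : P), x ∈ frattini P → conjZ z x ∈ frattini P := by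
    intro z x hx
    have hc : (frattini P).Characteristic := inferInstance
    exact (characteristic_iff_map_le.1 hc (conjZ z)) (mem_map_of_mem _ hx)
  let act : MulAction (zpowers h) (P ⧸ frattini P) :=
    { smul := fun z => Quotient.map' (conjZ z) fun x y hxy => by
        rw [QuotientGroup.leftRel_apply] at hxy ⊢
        rw [← map_inv, ← map_mul]
        exact hinv z _ hxy
      one_smul := fun q => by
        induction q using QuotientGroup.induction_on with
        | H x => show QuotientGroup.mk (conjZ 1 x) = _; rw [map_one]; rfl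
      mul_smul := fun z w q => by
        induction q using QuotientGroup.induction_on with
        | H x => show QuotientGroup.mk (conjZ (z * w) x) = QuotientGroup.mk (conjZ z (conjZ w x))
                 rw [map_mul]; rfl }
  have hsmul : ∀ (z : zpowers h) (x : P),
      z • (QuotientGroup.mk x : P ⧸ frattini P) = QuotientGroup.mk (conjZ z x) := fun _ _ => rfl
  -- the fixed points form a subgroup of index one
  let Fx : Subgroup (P ⧸ frattini P) :=
    { carrier := MulAction.fixedPoints (zpowers h) (P ⧸ frattini P)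
      one_mem' := fun z => by rw [← QuotientGroup.mk_one, hsmul, map_one]
      mul_mem' := fun {q r} hq hr z => by
        induction q using QuotientGroup.induction_on with
        | H x => induction r using QuotientGroup.induction_on with
          | H y => rw [← QuotientGroup.mk_mul, hsmul, map_mul, QuotientGroup.mk_mul, ← hsmul, ← hsmul, hq z, hr z]; rfl
      inv_mem' := fun {q} hq z => by
        induction q using QuotientGroup.induction_on with
        | H x => rw [← QuotientGroup.mk_inv, hsmul, map_inv, QuotientGroup.mk_inv, ← hsmul, hq z]; rfl }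
  obtain ⟨k, hk⟩ := IsPGroup.iff_card.1 (hP.to_quotient (frattini P))
  have hkle : k ≤ 3 := by
    rw [Subgroup.index, hk] at hidx
    exact (Nat.pow_le_pow_iff_right (by norm_num : 1 < 3)).1 (by norm_num; exact hidx)
  obtain ⟨i, hik, hi⟩ := (Nat.dvd_prime_pow Nat.prime_three).1 (hk ▸ Subgroup.card_subgroup_dvd_card Fx)
  have hmod : 3 ^ k ≡ 3 ^ i [MOD 7] := by
    have := hh.card_modEq_card_fixedPoints (P ⧸ frattini P)
    rw [hk] at this
    exact this.trans (by rw [← hi]; rfl)
  have hki : i = k := by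
    unfold Nat.ModEq at hmod
    interval_cases k <;> interval_cases i <;> simp_all
  have htop : Fx = ⊤ := Subgroup.eq_top_of_card_eq _ (by rw [hi, hki, hk])
  rw [commutator_le]
  intro a ha z hz
  have hfix : (⟨z, hz⟩ : zpowers h) • (QuotientGroup.mk (⟨a, ha⟩⁻¹ : P) : P ⧸ frattini P) =
      QuotientGroup.mk (⟨a, ha⟩⁻¹ : P) := (htop.ge (mem_top (QuotientGroup.mk (⟨a, ha⟩⁻¹ : P)))) ⟨z, hz⟩
  rw [hsmul] at hfix
  have h2 := QuotientGroup.eq.1 hfix.symm
  rw [inv_inv] at h2
  refine ⟨_, h2, ?_⟩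
  show a * ((MulAut.conjNormal z (⟨a, ha⟩ : P)⁻¹ : P) : M) = ⁅a, z⁆
  rw [MulAut.conjNormal_apply, commutatorElement_def, Subgroup.coe_inv]
  group

/-- The lifted configuration with the inverting lift. -/
theorem exists_config' {G H A : Type*} [Group G] [Finite G] [Group H] [Finite H] [Group A] [Finite A]
    [IsSimpleGroup A] (hA : ¬ IsMulCommutative A)
    (hG : ∀ P : Subgroup G, IsPGroup 3 P → (frattini P).index ≤ 27)
    (f : H →* G) (hf : Function.Injective f) (π : H →* A) (hπ : Function.Surjective π)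
    (h7 : 7 ∣ Nat.card A) (h27 : ¬ 27 ∣ Nat.card A) {a b t s : A}
    (ha : orderOf a = 3) (hb : b ^ 3 = 1) (hab : a * b = b * a) (hnot : b ≠ 1 ∧ b ≠ a ∧ b ≠ a * a)
    (hta : t * a * t⁻¹ = a⁻¹) (htb : t * b * t⁻¹ = b) (hsa : s * a * s⁻¹ = b) (hsb : s * b * s⁻¹ = a⁻¹) :
    ∃ α β σ y : G, α ^ 3 = 1 ∧ β ^ 3 = 1 ∧ α * β = β * α ∧ σ * α * σ⁻¹ = β ∧ σ * β * σ⁻¹ = α⁻¹ ∧
      α ≠ 1 ∧ β ≠ 1 ∧ β ≠ α ∧ β ≠ α⁻¹ ∧
      y * α * y⁻¹ = α⁻¹ ∧ y * β * y⁻¹ = β := by
  classical
  haveI : Fact (Nat.Prime 3) := ⟨Nat.prime_three⟩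
  haveI : Fact (Nat.Prime 7) := ⟨by norm_num⟩
  have ha3 : a ^ 3 = 1 := ha ▸ pow_orderOf_eq_one a
  obtain ⟨M, hfs, hperf, hnil, hfull⟩ := exists_minimal_cover hA π hπ
  set φ := π.comp M.subtype with hφ
  -- the elementary group of order nine is a Sylow subgroup
  let E0 : Subgroup A := closure {a, b}
  have hE0c : ∀ x ∈ E0, ∀ y ∈ E0, x * y = y * x := by
    have hc : IsMulCommutative E0 := Subgroup.isMulCommutative_closure (by
      intro x hx y hy
      rcases hx with rfl | rfl <;> rcases hy with rfl | rfl <;> first | rfl | exact hab | exact hab.symm)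
    intro x hx y hy
    exact congrArg Subtype.val (hc.is_comm.comm ⟨x, hx⟩ ⟨y, hy⟩)
  have hE0p : IsPGroup 3 E0 := by
    rintro ⟨x, hx⟩
    refine ⟨1, Subtype.ext ?_⟩
    rw [pow_one, SubmonoidClass.coe_pow, OneMemClass.coe_one]
    induction hx using closure_induction with
    | mem y hy => rcases hy with rfl | rfl <;> [exact ha3; exact hb]
    | one => simp
    | mul y z hy hz ihy ihz => rw [Commute.mul_pow (hE0c y hy z hz), ihy, ihz, one_mul]
    | inv y _ ih => rw [inv_pow, ih, inv_one]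
  have hE0card : Nat.card E0 = 9 := by
    obtain ⟨k, hk⟩ := IsPGroup.iff_card.1 hE0p
    have hdvd : 3 ^ k ∣ Nat.card A := hk ▸ card_subgroup_dvd_card E0
    have hk2 : k ≤ 2 := by
      by_contra h
      exact h27 (dvd_trans (show 27 ∣ 3 ^ k from by
        rw [show (27 : ℕ) = 3 ^ 3 by norm_num]; exact pow_dvd_pow 3 (by omega)) hdvd)
    have hk1 : 1 < k := by
      by_contra h
      have hle : zpowers a ≤ E0 := zpowers_le.2 (subset_closure (Set.mem_insert a {b}))
      have heq : zpowers a = E0 := Subgroup.eq_of_le_of_card_ge hle (by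
        rw [Nat.card_zpowers, ha, hk]
        calc 3 ^ k ≤ 3 ^ 1 := Nat.pow_le_pow_right (by norm_num) (by omega)
          _ = 3 := by norm_num)
      obtain ⟨i, hi⟩ : b ∈ Submonoid.powers a := by
        rw [mem_powers_iff_mem_zpowers, heq]; exact subset_closure (Set.mem_insert_of_mem a rfl)
      simp only at hi
      rw [pow_eq_pow_mod i ha3] at hi
      have : i % 3 < 3 := Nat.mod_lt _ (by norm_num)
      interval_cases h : i % 3
      · exact hnot.1 (by simpa using hi.symm)
      · exact hnot.2.1 (by simpa using hi.symm)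
      · exact hnot.2.2 (by simpa [pow_two] using hi.symm)
    rw [hk, show k = 2 by omega]
    norm_num
  -- a Sylow subgroup of the cover over it
  obtain ⟨P, hPmap⟩ : ∃ P : Sylow 3 M, (P : Subgroup M).map φ = E0 := by
    have hsyl : ∀ Q : Subgroup A, IsPGroup 3 Q → E0 ≤ Q → Q = E0 := by
      intro Q hQ hle
      refine (Subgroup.eq_of_le_of_card_ge hle ?_).symm
      obtain ⟨k, hk⟩ := IsPGroup.iff_card.1 hQ
      rw [hE0card, hk]
      by_contra h
      have h3 : 3 ≤ k := by
        by_contra h'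
        exact h ((Nat.pow_le_pow_right (by norm_num) (show k ≤ 2 by omega)).trans (by norm_num))
      exact h27 (dvd_trans (show 27 ∣ 3 ^ k from by
        rw [show (27 : ℕ) = 3 ^ 3 by norm_num]; exact pow_dvd_pow 3 h3) (hk ▸ card_subgroup_dvd_card Q))
    let S : Sylow 3 A := ⟨E0, hE0p, fun hQ hle => hsyl _ hQ hle⟩
    obtain ⟨P, hP⟩ := Sylow.mapSurjective_surjective hfs 3 S
    exact ⟨P, by rw [← Sylow.coe_mapSurjective hfs, hP]⟩
  -- the three-part of the kernel is central
  let N3 : Subgroup M := (P : Subgroup M) ⊓ φ.ker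
  have hN3n : N3.Normal := by
    haveI : Group.IsNilpotent φ.ker := hnil
    obtain ⟨R⟩ : Nonempty (Sylow 3 φ.ker) := inferInstance
    have hR : (R : Subgroup φ.ker).Characteristic :=
      R.characteristic_of_normal (((Group.isNilpotent_of_finite_tfae (G := φ.ker)).out 0 3 rfl rfl).1 hnil 3 inferInstance R)
    have hRn : ((R : Subgroup φ.ker).map φ.ker.subtype).Normal := ConjAct.normal_of_characteristic_of_normal
    have h1 : (R : Subgroup φ.ker).map φ.ker.subtype ≤ N3 :=
      le_inf (by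
        obtain ⟨Q, hQ⟩ := (R.2.map φ.ker.subtype).exists_le_sylow
        obtain ⟨g, hg⟩ := MulAction.exists_smul_eq M Q P
        intro x hx
        rw [← hg, Sylow.coe_subgroup_smul]
        refine ⟨g⁻¹ * x * g, hQ (by simpa using hRn.conj_mem x hx g⁻¹), ?_⟩
        show g * (g⁻¹ * x * g) * g⁻¹ = x
        group) (map_subtype_le _)
    have h2 : N3.subgroupOf φ.ker = R := by
      refine R.3 ((P.2.to_le inf_le_left).comap_of_injective _ (subtype_injective _)) ?_
      exact fun x hx => h1 (mem_map_of_mem _ hx)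
    have h3 : N3 = (R : Subgroup φ.ker).map φ.ker.subtype := by
      rw [← h2, subgroupOf_map_subtype, inf_eq_left.2 inf_le_right]
    rw [h3]; exact hRn
  have hcent : N3 ≤ center M := by
    have hp3 : IsPGroup 3 N3 := P.2.to_le inf_le_left
    have hidx : (frattini N3).index ≤ 27 := by
      let j : M →* G := f.comp M.subtype
      have hj : Function.Injective j := hf.comp (subtype_injective M)
      let e : N3 ≃* N3.map j := equivMapOfInjective N3 j hj
      have hm : (frattini (N3.map j)).map e.symm.toMonoidHom ≤ frattini N3 :=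
        Cfsg.Lib.PGroup.map_frattini_le (hp3.map j) hp3 e.symm.toMonoidHom
      refine le_trans ?_ (hG _ (hp3.map j))
      refine Nat.le_of_dvd (Nat.pos_of_ne_zero Subgroup.index_ne_zero_of_finite) ?_
      rw [← Subgroup.index_map_of_bijective (f := e.symm.toMonoidHom) e.symm.bijective]
      exact index_dvd_of_le hm
    have hC : centralizer (N3 : Set M) = ⊤ := by
      rcases (Subgroup.Normal.map (inferInstance : (centralizer (N3 : Set M)).Normal) φ hfs).eq_bot_or_eq_top
        with h | h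
      · exfalso
        obtain ⟨Q⟩ : Nonempty (Sylow 7 M) := inferInstance
        have hQ := (Q.mapSurjective hfs).ne_bot_of_dvd_card h7
        rw [Sylow.coe_mapSurjective] at hQ
        refine hQ ((eq_bot_iff_forall _).2 ?_)
        rintro _ ⟨x, hx, rfl⟩
        exact (eq_bot_iff_forall _).1 h _
          (mem_map_of_mem φ (seven_centralizes N3 hp3 hidx (Q.2.to_le (zpowers_le.2 hx))))
      · exact hfull _ h
    intro x hx
    rw [mem_center_iff]
    intro g
    exact (mem_centralizer_iff.1 (hC.ge (mem_top g)) x hx).symm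
  -- lifts
  have hker : ∀ x ∈ (P : Subgroup M), φ x = 1 → x ∈ center M := fun x hx h => hcent ⟨hx, h⟩
  obtain ⟨α, hα, hαa⟩ : a ∈ (P : Subgroup M).map φ := hPmap ▸ subset_closure (Set.mem_insert a {b})
  obtain ⟨β, hβ, hβb⟩ : b ∈ (P : Subgroup M).map φ := hPmap ▸ subset_closure (Set.mem_insert_of_mem a rfl)
  -- normalising lifts
  have hlift : ∀ r : A, r * a * r⁻¹ ∈ E0 → r * b * r⁻¹ ∈ E0 →
      ∃ y : M, (∀ p ∈ (P : Subgroup M), y * p * y⁻¹ ∈ (P : Subgroup M)) ∧
        φ y * a * (φ y)⁻¹ = r * a * r⁻¹ ∧ φ y * b * (φ y)⁻¹ = r * b * r⁻¹ := by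
    intro r hra hrb
    let K : Subgroup M := E0.comap φ
    have hPK : (P : Subgroup M) ≤ K := fun x hx => hPmap.le (mem_map_of_mem φ hx)
    obtain ⟨r₀, hr₀⟩ := hfs r
    have hrE : E0.map (MulAut.conj r).toMonoidHom = E0 := by
      refine Subgroup.eq_of_le_of_card_ge ?_ (by
        rw [Nat.card_congr (equivMapOfInjective E0 _ (MulAut.conj r).injective).toEquiv.symm])
      rw [MonoidHom.map_closure, closure_le]
      rintro _ ⟨x, hx, rfl⟩
      rcases hx with rfl | rfl
      · exact hra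
      · exact hrb
    have hQK : ((r₀ • P : Sylow 3 M) : Subgroup M) ≤ K := by
      rw [Sylow.coe_subgroup_smul]
      rintro _ ⟨x, hx, rfl⟩
      show φ (r₀ * x * r₀⁻¹) ∈ E0
      rw [map_mul, map_mul, map_inv, hr₀, ← hrE]
      exact mem_map_of_mem (MulAut.conj r).toMonoidHom (hPK hx)
    obtain ⟨k, hk⟩ := MulAction.exists_smul_eq K ((r₀ • P).subtype hQK) (P.subtype hPK)
    refine ⟨k * r₀, fun p hp => ?_, ?_, ?_⟩
    · have hm : r₀ * p * r₀⁻¹ ∈ K := hQK (by
        rw [Sylow.coe_subgroup_smul]; exact ⟨p, hp, rfl⟩)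
      have h1 : (⟨r₀ * p * r₀⁻¹, hm⟩ : K) ∈ (((r₀ • P).subtype hQK : Sylow 3 K) : Subgroup K) := by
        rw [Sylow.coe_subtype, Subgroup.mem_subgroupOf, Sylow.coe_subgroup_smul]
        exact ⟨p, hp, rfl⟩
      have h2 : k * ⟨r₀ * p * r₀⁻¹, hm⟩ * k⁻¹ ∈ ((P.subtype hPK : Sylow 3 K) : Subgroup K) := by
        rw [← hk, Sylow.coe_subgroup_smul]
        exact ⟨_, h1, rfl⟩
      rw [Sylow.coe_subtype, Subgroup.mem_subgroupOf] at h2
      simpa [mul_assoc] using h2
    all_goals
      rw [map_mul, hr₀, show ∀ c u : A, c * r * u * (c * r)⁻¹ = c * (r * u * r⁻¹) * c⁻¹ by intros; group]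
    · rw [hE0c _ k.2 _ hra, mul_inv_cancel_right]
    · rw [hE0c _ k.2 _ hrb, mul_inv_cancel_right]
  have hbE : b ∈ E0 := subset_closure (Set.mem_insert_of_mem a rfl)
  have haE : a ∈ E0 := subset_closure (Set.mem_insert a {b})
  obtain ⟨y, hyP, hya, hyb⟩ := hlift t (by rw [hta]; exact inv_mem haE) (by rw [htb]; exact hbE)
  rw [hta] at hya
  rw [htb] at hyb
  -- the commutator of the lifts is trivial
  have hcm : ⁅α, β⁆ ∈ center M := hker _ (by
    rw [commutatorElement_def]
    exact mul_mem (mul_mem (mul_mem hα hβ) (inv_mem hα)) (inv_mem hβ)) (by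
    rw [map_commutatorElement, hαa, hβb, commutatorElement_eq_one_iff_mul_comm, hab])
  obtain ⟨z, hz, hzy⟩ : ∃ z ∈ center M, y * α * y⁻¹ = α⁻¹ * z :=
    ⟨α * (y * α * y⁻¹), hker _ (mul_mem hα (hyP _ hα)) (by
      rw [map_mul, map_mul, map_mul, map_inv, hαa, hya, mul_inv_cancel]), by group⟩
  obtain ⟨z', hz', hzy'⟩ : ∃ z' ∈ center M, y * β * y⁻¹ = β * z' :=
    ⟨β⁻¹ * (y * β * y⁻¹), hker _ (mul_mem (inv_mem hβ) (hyP _ hβ)) (by
      rw [map_mul, map_inv, map_mul, map_mul, map_inv, hβb, hyb, inv_mul_cancel]), by group⟩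
  have hab1 : ⁅α, β⁆ = 1 := by
    have e1 : ⁅y * α * y⁻¹, y * β * y⁻¹⁆ = ⁅α, β⁆ := by
      rw [show ⁅y * α * y⁻¹, y * β * y⁻¹⁆ = y * ⁅α, β⁆ * y⁻¹ by simp only [commutatorElement_def]; group,
        mem_center_iff.1 hcm y, mul_inv_cancel_right]
    have e2 : ⁅y * α * y⁻¹, y * β * y⁻¹⁆ = (⁅α, β⁆)⁻¹ := by
      rw [hzy, hzy']
      have hzc := mem_center_iff.1 hz
      have hzc' := mem_center_iff.1 hz'
      have e3 : ⁅α⁻¹ * z, β * z'⁆ = ⁅α⁻¹, β⁆ := by
        simp only [commutatorElement_def, mul_inv_rev]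
        calc α⁻¹ * z * (β * z') * (z⁻¹ * α⁻¹⁻¹) * (z'⁻¹ * β⁻¹)
            = α⁻¹ * β * (z * z' * z⁻¹) * α⁻¹⁻¹ * (z'⁻¹ * β⁻¹) := by
              rw [mul_assoc α⁻¹ z (β * z'), ← mul_assoc z β z', ← hzc β]; group
          _ = _ := by
              rw [← hzc z', mul_inv_cancel_right, mul_assoc (α⁻¹ * β) z' _, ← hzc' α⁻¹⁻¹]
              group
      rw [e3]
      have hc := mem_center_iff.1 hcm α
      calc ⁅α⁻¹, β⁆ = α⁻¹ * (⁅α, β⁆)⁻¹ * α := by simp only [commutatorElement_def]; group
        _ = _ := by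
            rw [mul_assoc, show (⁅α, β⁆)⁻¹ * α = α * (⁅α, β⁆)⁻¹ from
              ((Commute.inv_right hc).eq).symm, inv_mul_cancel_left]
    obtain ⟨k, hk⟩ := P.2 ⟨_, show ⁅α, β⁆ ∈ (P : Subgroup M) by
      rw [commutatorElement_def]
      exact mul_mem (mul_mem (mul_mem hα hβ) (inv_mem hα)) (inv_mem hβ)⟩
    have hsq : ⁅α, β⁆ ^ 2 = 1 := by
      rw [pow_two, mul_eq_one_iff_eq_inv, ← e2, e1]
    have hpk : ⁅α, β⁆ ^ 3 ^ k = 1 := congrArg Subtype.val hk
    have h1 := pow_gcd_eq_one.2 ⟨hsq, hpk⟩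
    rwa [(Nat.Coprime.pow_right k (by norm_num : Nat.Coprime 2 3)).gcd_eq_one, pow_one] at h1
  have hαβ : α * β = β * α := commutatorElement_eq_one_iff_mul_comm.1 hab1
  -- the Sylow subgroup is abelian
  have hPc : ∀ x ∈ (P : Subgroup M), ∀ w ∈ (P : Subgroup M), x * w = w * x := by
    have hgen : (P : Subgroup M) ≤ closure {α, β} ⊔ center M := by
      intro x hx
      have h1 : φ x ∈ (closure {α, β}).map φ := by
        rw [MonoidHom.map_closure, Set.image_pair, hαa, hβb]
        exact hPmap.le (mem_map_of_mem φ hx)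
      obtain ⟨w, hw, hwx⟩ := h1
      have hwP : w ∈ (P : Subgroup M) := (closure_le _).2 (by
        rintro u (rfl | rfl) <;> assumption) hw
      rw [show x = w * (w⁻¹ * x) by group]
      exact mul_mem (mem_sup_left hw) (mem_sup_right (hker _ (mul_mem (inv_mem hwP) hx) (by
        rw [map_mul, map_inv, hwx, inv_mul_cancel])))
    have hc : IsMulCommutative ↥(closure ({α, β} ∪ (center M : Set M))) :=
      Subgroup.isMulCommutative_closure (by
        rintro u (hu | hu) w (hw | hw)
        · rcases hu with rfl | rfl <;> rcases hw with rfl | rfl <;>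
            first | rfl | exact hαβ | exact hαβ.symm
        · exact mem_center_iff.1 hw u
        · exact (mem_center_iff.1 hu w).symm
        · exact mem_center_iff.1 hw u)
    have hle : (P : Subgroup M) ≤ closure ({α, β} ∪ (center M : Set M)) := by
      refine hgen.trans ?_
      rw [Subgroup.closure_union, Subgroup.closure_eq]
    intro x hx w hw
    exact congrArg Subtype.val (hc.is_comm.comm ⟨x, hle hx⟩ ⟨w, hle hw⟩)
  have htriv : ∀ x ∈ (P : Subgroup M), φ x = 1 → x = 1 := by
    intro x hx hx1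
    letI : CommGroup (P : Subgroup M) :=
      { (inferInstance : Group (P : Subgroup M)) with
        mul_comm := fun u w => Subtype.ext (hPc u u.2 w w.2) }
    have hxc := mem_center_iff.1 (hker x hx hx1)
    have key : ∀ (k : ℕ) (g₀ : M), g₀⁻¹ * x ^ k * g₀ ∈ (P : Subgroup M) → g₀⁻¹ * x ^ k * g₀ = x ^ k := by
      intro k g₀ _
      rw [mul_assoc, ← (Commute.pow_right (hxc g₀) k).eq, inv_mul_cancel_left]
    let τ : M →* (P : Subgroup M) := MonoidHom.transfer (MonoidHom.id (P : Subgroup M))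
    have h1 : τ x = ⟨x ^ (P : Subgroup M).index, MonoidHom.transfer_eq_pow_aux x key⟩ :=
      MonoidHom.transfer_eq_pow _ x key
    have h2 : τ x = 1 := by
      have : commutator M ≤ τ.ker := Abelianization.commutator_subset_ker τ
      exact this (hperf.ge (mem_top x))
    have h3 : x ^ (P : Subgroup M).index = 1 := congrArg Subtype.val (h1.symm.trans h2)
    obtain ⟨k, hk⟩ := P.2 ⟨x, hx⟩
    have hk' : x ^ 3 ^ k = 1 := congrArg Subtype.val hk
    have h4 := pow_gcd_eq_one.2 ⟨hk', h3⟩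
    rwa [(Nat.Coprime.pow_left k (Nat.prime_three.coprime_iff_not_dvd.2 P.not_dvd_index)).gcd_eq_one,
      pow_one] at h4
  have heq : ∀ x ∈ (P : Subgroup M), ∀ w ∈ (P : Subgroup M), φ x = φ w → x = w := fun x hx w hw h =>
    inv_mul_eq_one.1 (htriv _ (mul_mem (inv_mem hx) hw) (by rw [map_mul, map_inv, h, inv_mul_cancel]))
  obtain ⟨σ, hσP, hσa, hσb⟩ := hlift s (by rw [hsa]; exact hbE) (by rw [hsb]; exact inv_mem haE)
  rw [hsa] at hσa
  rw [hsb] at hσb
  let j : M →* G := f.comp M.subtype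
  have hj : Function.Injective j := hf.comp (subtype_injective M)
  have ja : ∀ {x : M}, φ x ≠ 1 → j x ≠ 1 := fun h e => h (by
    rw [hj (e.trans (map_one j).symm), map_one])
  refine ⟨j α, j β, j σ, j y, ?_, ?_, ?_, ?_, ?_, ja ?_, ja ?_, ?_, ?_, ?_, ?_⟩
  · rw [← map_pow, htriv _ (pow_mem hα 3) (by rw [map_pow, hαa, ha3]), map_one]
  · rw [← map_pow, htriv _ (pow_mem hβ 3) (by rw [map_pow, hβb, hb]), map_one]
  · rw [← map_mul, hαβ, map_mul]
  · rw [← map_inv, ← map_mul, ← map_mul,
      heq _ (hσP _ hα) _ hβ (by rw [map_mul, map_mul, map_inv, hαa, hσa, hβb])]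
  · rw [← map_inv, ← map_mul, ← map_mul,
      heq _ (hσP _ hβ) _ (inv_mem hα) (by rw [map_mul, map_mul, map_inv, hβb, hσb, map_inv, hαa]), map_inv]
  · rw [hαa]; exact fun h => by rw [h, orderOf_one] at ha; omega
  · rw [hβb]; exact hnot.1
  · exact fun h => hnot.2.1 (by rw [← hαa, ← hβb, hj h])
  · intro h
    rw [← map_inv] at h
    refine hnot.2.2 ?_
    rw [← hβb, hj h, map_inv, hαa]
    exact inv_eq_of_mul_eq_one_right (by rw [← pow_two, ← pow_succ']; exact ha3)
  · rw [← map_inv, ← map_mul, ← map_mul,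
      heq _ (hyP _ hα) _ (inv_mem hα) (by rw [map_mul, map_mul, map_inv, hαa, hya, map_inv, hαa]), map_inv]
  · rw [← map_inv, ← map_mul, ← map_mul,
      heq _ (hyP _ hβ) _ hβ (by rw [map_mul, map_mul, map_inv, hβb, hyb])]


/-- The lifted configuration. -/
theorem exists_config {G H A : Type*} [Group G] [Finite G] [Group H] [Finite H] [Group A] [Finite A]
    [IsSimpleGroup A] (hA : ¬ IsMulCommutative A)
    (hG : ∀ P : Subgroup G, IsPGroup 3 P → (frattini P).index ≤ 27)
    (f : H →* G) (hf : Function.Injective f) (π : H →* A) (hπ : Function.Surjective π)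
    (h7 : 7 ∣ Nat.card A) (h27 : ¬ 27 ∣ Nat.card A) {a b t s : A}
    (ha : orderOf a = 3) (hb : b ^ 3 = 1) (hab : a * b = b * a) (hnot : b ≠ 1 ∧ b ≠ a ∧ b ≠ a * a)
    (hta : t * a * t⁻¹ = a⁻¹) (htb : t * b * t⁻¹ = b) (hsa : s * a * s⁻¹ = b) (hsb : s * b * s⁻¹ = a⁻¹) :
    ∃ α β σ : G, α ^ 3 = 1 ∧ β ^ 3 = 1 ∧ α * β = β * α ∧ σ * α * σ⁻¹ = β ∧ σ * β * σ⁻¹ = α⁻¹ ∧
      α ≠ 1 ∧ β ≠ 1 ∧ β ≠ α ∧ β ≠ α⁻¹ := by
  obtain ⟨α, β, σ, -, h1, h2, h3, h4, h5, h6, h7', h8, h9, -, -⟩ :=
    exists_config' hA hG f hf π hπ h7 h27 ha hb hab hnot hta htb hsa hsb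
  exact ⟨α, β, σ, h1, h2, h3, h4, h5, h6, h7', h8, h9⟩

end Cfsg.Lib.Chev.G2Alt
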