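import Cfsg.Agent.Lib.Chev.G2Alt.Types
import Cfsg.Agent.Lib.Chev.G2Alt.Cover
import Cfsg.Agent.Lib.Chev.G2Alt.Fusion

/-!
Alternating sections of `G₂(q)`.
-/

set_option autoImplicit false
set_option linter.unusedSectionVars false
set_option maxRecDepth 100000

namespace Cfsg.Lib.Chev.G2Alt

open Cfsg.Lie

private theorem cG : Cert chevG2 tblG2 := fullCertG2.comm.cert

variable {F : Type*} [Field F] [Fintype F]

/-- The torus inside the group. -/
def torusIn (F : Type*) [Field F] : Subgroup ↥(chevG2.group F) :=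
  (chevG2.diagonalSubgroup F).subgroupOf (chevG2.group F)

/-- The monomial subgroup inside the group. -/
def monIn (F : Type*) [Field F] : Subgroup ↥(chevG2.group F) :=
  (chevG2.monomialSubgroup F).subgroupOf (chevG2.group F)

theorem index_torus :
    (torusIn F).index = Fintype.card F ^ 6 * ((∑ e ∈ Finset.range 2, Fintype.card F ^ e) *
      ∑ e ∈ Finset.range 6, Fintype.card F ^ e) := by
  have h := card_group cG fullCertG2 (F := F) chkWeylG2
  have hT : Nat.card (torusIn F) = Nat.card ↥(chevG2.diagonalSubgroup F) :=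
    Nat.card_congr (Subgroup.subgroupOfEquivOfLe (diag_le_group cG)).toEquiv
  rw [← (torusIn F).card_mul_index, hT] at h
  simp only [show chevG2.rank = 2 from rfl, Finset.prod_range_succ, Finset.prod_range_zero, one_mul, nth_eq,
    weylG2, List.getD_cons_zero, List.getD_cons_succ, lensG2_0, lensG2_1, show chevG2.nroots / 2 = 6 from rfl,
    Nat.card_eq_fintype_card (α := F)] at h
  have h' : Nat.card ↥(chevG2.diagonalSubgroup F) * (torusIn F).index =
      Nat.card ↥(chevG2.diagonalSubgroup F) * (Fintype.card F ^ 6 * ((∑ e ∈ Finset.range 2, Fintype.card F ^ e) *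
        ∑ e ∈ Finset.range 6, Fintype.card F ^ e)) := by
    rw [h]
    simp only [List.map_cons, List.map_nil, List.sum_cons, List.sum_nil, Finset.sum_range_succ,
      Finset.sum_range_zero, zero_add, add_zero]
    ring
  exact Nat.eq_of_mul_eq_mul_left Nat.card_pos h'

/-- No alternating section with a five-cycle inverted squarewise. -/
theorem no_five (hq : Fintype.card F % 5 = 1) {H A : Type*} [Group H] [Finite H] [Group A]
    (f : H →* ↥(chevG2.group F)) (hf : Function.Injective f) (π : H →* A) (hπ : Function.Surjective π)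
    {a s : A} (ha : orderOf a = 5) (hs : s * a * s⁻¹ = a ^ 2) : False := by
  haveI : Fact (Nat.Prime 5) := ⟨by norm_num⟩
  haveI : Finite ↥(chevG2.group F) := inferInstance
  refine no_fusion_section (torusIn F) (ℓ := 5) ?_ (m := 6)
    (fun g x => fusion_exponent cG fullCertG2 chkWeylG2 expG2 g x) f hf π hπ ha hs (by norm_num) (by norm_num)
  rw [index_torus]
  intro h
  have h0 := Nat.mod_eq_zero_of_dvd h
  simp [Nat.mul_mod, Nat.pow_mod, hq, Finset.sum_range_succ, Nat.add_mod] at h0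

section Three

theorem exists_omega (hq : Fintype.card F % 3 = 1) : ∃ ω : Fˣ, orderOf ω = 3 := by
  classical
  haveI : Fact (Nat.Prime 3) := ⟨Nat.prime_three⟩
  refine exists_prime_orderOf_dvd_card 3 ?_
  rw [Fintype.card_units]
  have := Fintype.card_pos (α := F)
  omega

theorem rotation_word : ∃ u ∈ wordsG2, IsThree u := by decide +kernel

theorem mon_index (hq : Fintype.card F % 3 = 1) : ¬ 3 ∣ (monIn F).index := by
  classical
  haveI : Fact (Nat.Prime 3) := ⟨Nat.prime_three⟩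
  obtain ⟨u, hu, hu3, hne⟩ := rotation_word
  have huw : IsWord chevG2 u := (allW_below cG fullCertG2 chkWeylG2 _ le_rfl _ hu).isWord le_rfl
  have hle : torusIn F ≤ monIn F := fun x hx => diag_le_monomial cG hx
  have hrel : 3 ∣ (torusIn F).relIndex (monIn F) := by
    let T' := (torusIn F).subgroupOf (monIn F)
    haveI hn : T'.Normal := ⟨fun x hx g => (conj_mem_diag cG g.2 hx).1⟩
    let x : ↥(monIn F) := ⟨⟨wnu cG F u, wnu_mem_group cG huw⟩, wnu_mem cG huw⟩
    have h3 : (x : ↥(monIn F) ⧸ T') ^ 3 = 1 := by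
      rw [← QuotientGroup.mk_pow, QuotientGroup.eq_one_iff]
      show (wnu cG F u) ^ 3 ∈ chevG2.diagonalSubgroup F
      obtain ⟨hw, d', hd', he⟩ := monomial_pow cG huw (one_mem (chevG2.diagonalSubgroup F)) 3
      rw [mul_one] at he
      rw [he]
      exact mul_mem (wnu_mem_diag cG fullCertG2 hw hu3) hd'
    have h1 : (x : ↥(monIn F) ⧸ T') ≠ 1 := by
      rw [Ne, QuotientGroup.eq_one_iff]
      intro h
      refine hne fun k hk => ?_
      have hmem : (wnu cG F [])⁻¹ * wnu cG F u ∈ chevG2.diagonalSubgroup F := by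
        rw [show wnu cG F ([] : List ℕ) = 1 by simp [wnu], inv_one, one_mul]
        exact h
      exact (perm_of_same cG (fun i hi => absurd hi List.not_mem_nil) huw hmem (cG.spec.simp_lt k hk)).symm
    have := orderOf_dvd_natCard (x : ↥(monIn F) ⧸ T')
    rwa [orderOf_eq_prime h3 h1] at this
  intro h
  have h9 : 9 ∣ (torusIn F).index := by
    rw [← Subgroup.relIndex_mul_index hle, show (9 : ℕ) = 3 * 3 by norm_num]
    exact mul_dvd_mul hrel h
  rw [index_torus] at h9
  have h0 := Nat.mod_eq_zero_of_dvd h9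
  have h13 : Fintype.card F % 9 = 1 ∨ Fintype.card F % 9 = 4 ∨ Fintype.card F % 9 = 7 := by omega
  rcases h13 with h | h | h <;>
    simp [Nat.mul_mod, Nat.pow_mod, h, Finset.sum_range_succ, Nat.add_mod] at h0

theorem conj_into_mon (hq : Fintype.card F % 3 = 1) {P : Subgroup ↥(chevG2.group F)} (hP : IsPGroup 3 P) :
    ∃ t : ↥(chevG2.group F), ∀ p ∈ P, t⁻¹ * p * t ∈ monIn F := by
  haveI : Fact (Nat.Prime 3) := ⟨Nat.prime_three⟩
  obtain ⟨t, ht⟩ : (MulAction.fixedPoints P (↥(chevG2.group F) ⧸ monIn F)).Nonempty :=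
    hP.nonempty_fixed_point_of_prime_not_dvd_card _ (by
      rw [← Subgroup.index_eq_card]; exact mon_index hq)
  induction t using QuotientGroup.induction_on with
  | H t =>
  exact ⟨t, fun p hp => by simpa [mul_assoc] using QuotientGroup.eq.mp (ht ⟨p, hp⟩).symm⟩

theorem par_eq_one {ω : Fˣ} (hω : orderOf ω = 3) {a b : Fin 3}
    (h : torusHom chevG2 tblG2 F (par ω a b) = 1) : a = 0 ∧ b = 0 := by
  have h1 : par ω a b = 1 := g2_torus_injective (by rw [h, map_one])
  have key : ∀ c : Fin 3, ω ^ c.val = 1 → c = 0 := fun c hc =>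
    Fin.ext (pow_injOn_Iio_orderOf (by rw [hω]; exact c.2) (by rw [hω]; norm_num)
      (by simpa using hc))
  exact ⟨key a (by simpa [par] using congrFun h1 ⟨0, by decide⟩),
    key b (by simpa [par] using congrFun h1 ⟨1, by decide⟩)⟩

theorem par_ne {ω : Fˣ} {x : GL chevG2.Idx F} {a b : Fin 3} (he : x = torusHom chevG2 tblG2 F (par ω a b))
    (hx : x ≠ 1) : a ≠ 0 ∨ b ≠ 0 := by
  by_contra h
  push Not at h
  rw [h.1, h.2, par_zero, map_one] at he
  exact hx he

theorem long_neg : ∀ a b : Fin 3, IsLong a b → IsLong (-a) (-b) := by decide +kernel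

theorem outside_cube {x : GL chevG2.Idx F} (hx : x ∈ chevG2.monomialSubgroup F)
    {k : ℕ} (hk : x ^ 3 ^ k = 1) : x ^ 3 ∈ chevG2.diagonalSubgroup F := by
  obtain ⟨u, hu, huw, d, hd, rfl⟩ := monomial_word cG fullCertG2 chkWeylG2 hx
  have h6 : (wnu cG F u * d) ^ 6 ∈ chevG2.diagonalSubgroup F := by
    obtain ⟨hw, d', hd', he⟩ := monomial_pow cG huw hd 6
    rw [he]
    exact mul_mem (wnu_mem_diag cG fullCertG2 hw (expG2 u hu)) hd'
  set y := wnu cG F u * d
  rcases k with - | k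
  · rw [pow_zero, pow_one] at hk
    rw [hk, one_pow]
    exact one_mem _
  have hb := Nat.gcd_eq_gcd_ab 6 (3 ^ (k + 1))
  have hg : Nat.gcd 6 (3 ^ (k + 1)) = 3 := by
    rw [pow_succ, show (6 : ℕ) = 2 * 3 by norm_num, Nat.gcd_mul_right,
      Nat.Coprime.pow_right k (by norm_num : Nat.Coprime 2 3), one_mul]
  rw [hg] at hb
  rw [← zpow_natCast, hb, zpow_add, zpow_mul, zpow_mul, zpow_natCast, zpow_natCast, hk, one_zpow, mul_one]
  exact zpow_mem h6 _

theorem outside' {x : GL chevG2.Idx F} (hx : x ∈ chevG2.monomialSubgroup F)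
    (hx3 : x ^ 3 ∈ chevG2.diagonalSubgroup F) (hxT : x ∉ chevG2.diagonalSubgroup F) :
    ∃ u ∈ wordsG2, IsWord chevG2 u ∧ IsThree u ∧ ∃ d ∈ chevG2.diagonalSubgroup F, x = wnu cG F u * d := by
  obtain ⟨u, hu, huw, d, hd, rfl⟩ := monomial_word cG fullCertG2 chkWeylG2 hx
  refine ⟨u, hu, huw, ?_, d, hd, rfl⟩
  obtain ⟨hw, d', hd', he⟩ := monomial_pow cG huw hd 3
  refine ⟨fun k hk => ?_, fun h => hxT (mul_mem (wnu_mem_diag cG fullCertG2 huw h) hd)⟩
  have hmem : (wnu cG F [])⁻¹ * wnu cG F (List.replicate 3 u).flatten ∈ chevG2.diagonalSubgroup F := by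
    rw [show wnu cG F ([] : List ℕ) = 1 by simp [wnu], inv_one, one_mul]
    rw [he] at hx3
    simpa [mul_assoc] using mul_mem hx3 (inv_mem hd')
  exact (perm_of_same cG (fun i hi => absurd hi List.not_mem_nil) hw hmem (cG.spec.simp_lt k hk)).symm

/-- Two three-elements outside the torus agree modulo the torus up to inversion. -/
theorem outside_pair {x y : GL chevG2.Idx F} (hx : x ∈ chevG2.monomialSubgroup F)
    (hy : y ∈ chevG2.monomialSubgroup F) (hx3 : x ^ 3 ∈ chevG2.diagonalSubgroup F)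
    (hy3 : y ^ 3 ∈ chevG2.diagonalSubgroup F) (hxT : x ∉ chevG2.diagonalSubgroup F)
    (hyT : y ∉ chevG2.diagonalSubgroup F) :
    x * y ∈ chevG2.diagonalSubgroup F ∨ x * y * y ∈ chevG2.diagonalSubgroup F := by
  obtain ⟨u, hu, huw, hu3, d, hd, rfl⟩ := outside' hx hx3 hxT
  obtain ⟨v, hv, hvw, hv3, e, he, rfl⟩ := outside' hy hy3 hyT
  rcases three_pair u hu hu3 v hv hv3 with h | h
  · left
    rw [show wnu cG F u * d * (wnu cG F v * e) =
      wnu cG F (u ++ v) * (((wnu cG F v)⁻¹ * d * wnu cG F v) * e) by rw [wnu_append]; group]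
    exact mul_mem (wnu_mem_diag cG fullCertG2 (huw.append hvw) h)
      (mul_mem (conj_mem_diag cG (wnu_mem cG hvw) hd).2 he)
  · right
    rw [show wnu cG F u * d * (wnu cG F v * e) * (wnu cG F v * e) = wnu cG F (u ++ v ++ v) *
      ((wnu cG F v)⁻¹ * (((wnu cG F v)⁻¹ * d * wnu cG F v) * e) * wnu cG F v * e) by
        rw [wnu_append, wnu_append]; group]
    exact mul_mem (wnu_mem_diag cG fullCertG2 ((huw.append hvw).append hvw) h)
      (mul_mem (conj_mem_diag cG (wnu_mem cG hvw)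
        (mul_mem (conj_mem_diag cG (wnu_mem cG hvw) hd).2 he)).2 he)

theorem frattini_bound (hq : Fintype.card F % 3 = 1) (P : Subgroup ↥(chevG2.group F)) (hP : IsPGroup 3 P) :
    (frattini P).index ≤ 27 := by
  classical
  haveI : Fact (Nat.Prime 3) := ⟨Nat.prime_three⟩
  obtain ⟨ω, hω⟩ := exists_omega hq
  obtain ⟨t, ht⟩ := conj_into_mon hq hP
  let c : ↥P →* GL chevG2.Idx F := (chevG2.group F).subtype.comp ((MulAut.conj t⁻¹).toMonoidHom.comp P.subtype)
  have hcM : ∀ p, c p ∈ chevG2.monomialSubgroup F := fun p => by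
    have := ht p p.2
    simpa [c] using Subgroup.mem_subgroupOf.mp this
  have hcinj : Function.Injective c := fun x y h =>
    Subtype.ext ((MulAut.conj t⁻¹).injective (Subtype.ext h))
  let A : Subgroup ↥P := (chevG2.diagonalSubgroup F).comap c
  have hAn : A.Normal := ⟨fun x hx g => by
    show c (g * x * g⁻¹) ∈ chevG2.diagonalSubgroup F
    rw [map_mul, map_mul, map_inv]
    exact (conj_mem_diag cG (hcM g) hx).1⟩
  have hcube : ∀ p, c p ^ 3 ∈ chevG2.diagonalSubgroup F := fun p => by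
    obtain ⟨k, hk⟩ := hP p
    exact outside_cube (hcM p) (k := k) (by rw [← map_pow, hk, map_one])
  have hA3 : A.index ≤ 3 := by
    by_cases htop : A = ⊤
    · rw [htop, Subgroup.index_top]; norm_num
    obtain ⟨x, hx⟩ : ∃ x, x ∉ A := by
      by_contra h
      push Not at h
      exact htop (eq_top_iff.2 fun x _ => h x)
    rw [Subgroup.index_eq_card]
    refine (Nat.card_le_card_of_surjective (fun i : Fin 3 => ((x ^ i.val : ↥P) : ↥P ⧸ A)) ?_).trans
      (by rw [Nat.card_fin])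
    intro q
    induction q using QuotientGroup.induction_on with
    | H y =>
      by_cases hy : y ∈ A
      · exact ⟨0, by rw [QuotientGroup.eq]; simpa using hy⟩
      rcases outside_pair (hcM x) (hcM y) (hcube x) (hcube y) hx hy with h | h
      · refine ⟨2, ?_⟩
        have hxy : x * y ∈ A := by show c (x * y) ∈ chevG2.diagonalSubgroup F; rw [map_mul]; exact h
        have hx3 : x ^ 3 ∈ A := by show c (x ^ 3) ∈ chevG2.diagonalSubgroup F; rw [map_pow]; exact hcube x
        rw [QuotientGroup.eq]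
        show (x ^ 2)⁻¹ * y ∈ A
        rw [show (x ^ 2)⁻¹ * y = (x ^ 3)⁻¹ * (x * y) by group]
        exact mul_mem (inv_mem hx3) hxy
      · refine ⟨1, ?_⟩
        have hxy : x * y * y ∈ A := by show c (x * y * y) ∈ chevG2.diagonalSubgroup F; rw [map_mul, map_mul]; exact h
        have hy3 : y ^ 3 ∈ A := by show c (y ^ 3) ∈ chevG2.diagonalSubgroup F; rw [map_pow]; exact hcube y
        rw [QuotientGroup.eq]
        show (x ^ 1)⁻¹ * y ∈ A
        have h2 : x * y⁻¹ ∈ A := by
          rw [show x * y⁻¹ = x * y * y * (y ^ 3)⁻¹ by group]; exact mul_mem hxy (inv_mem hy3)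
        have h4 := inv_mem (hAn.conj_mem _ h2 x⁻¹)
        rw [show (x⁻¹ * (x * y⁻¹) * x⁻¹⁻¹)⁻¹ = x⁻¹ * y by group] at h4
        rwa [pow_one]
  -- cubes of `A`
  letI : CommGroup ↥A :=
    { (inferInstance : Group ↥A) with
      mul_comm := fun a b => Subtype.ext (hcinj (by
        rw [Subgroup.coe_mul, Subgroup.coe_mul, map_mul, map_mul, diag_commute cG a.2 b.2])) }
  let cb : ↥A →* ↥A := powMonoidHom 3
  have hk9 : Nat.card cb.ker ≤ 9 := by
    have key : ∀ x : cb.ker, ∃ p : Fin 3 × Fin 3, c ((x : ↥A) : ↥P) = torusHom chevG2 tblG2 F (par ω p.1 p.2) := by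
      intro x
      obtain ⟨a, b, h⟩ := exists_par hω (x : ↥A).2 (by
        rw [← map_pow, ← Subgroup.coe_pow, show (x : ↥A) ^ 3 = 1 from x.2, Subgroup.coe_one, map_one])
      exact ⟨(a, b), h⟩
    choose g hg using key
    refine (Nat.card_le_card_of_injective g fun x y h => ?_).trans (by simp)
    exact Subtype.ext (Subtype.ext (hcinj (by rw [hg, hg, h])))
  have hle : (cb.range.map A.subtype) ≤ frattini P := by
    rintro _ ⟨_, ⟨a, rfl⟩, rfl⟩
    exact Cfsg.Lib.PGroup.pow_mem_frattini hP _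
  refine le_trans (Nat.le_of_dvd (Nat.pos_of_ne_zero Subgroup.index_ne_zero_of_finite)
    (Subgroup.index_dvd_of_le hle)) ?_
  rw [Subgroup.index_map_of_injective _ A.subtype_injective, Subgroup.range_subtype]
  have hidx : cb.range.index = Nat.card cb.ker := by
    have h1 := cb.range.card_mul_index
    have h2 := cb.ker.card_mul_index
    rw [Subgroup.index_ker] at h2
    rw [← h2, mul_comm (Nat.card cb.ker)] at h1
    exact Nat.eq_of_mul_eq_mul_left Nat.card_pos h1
  rw [hidx]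
  calc Nat.card cb.ker * A.index ≤ 9 * 3 := Nat.mul_le_mul hk9 hA3
    _ = 27 := by norm_num

variable [NeZero (2 : F)] [NeZero (3 : F)]

theorem no_three_config (hq : Fintype.card F % 3 = 1) {α β σ : ↥(chevG2.group F)} (hα : α ^ 3 = 1)
    (hβ : β ^ 3 = 1) (hc : α * β = β * α) (hσα : σ * α * σ⁻¹ = β) (hσβ : σ * β * σ⁻¹ = α⁻¹)
    (ha1 : α ≠ 1) (hb1 : β ≠ 1) (hne : β ≠ α) (hne' : β ≠ α⁻¹) : False := by
  classical
  obtain ⟨ω, hω⟩ := exists_omega hq
  have hω3 : ω ^ 3 = 1 := hω ▸ pow_orderOf_eq_one ω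
  have hω1 : ω ≠ 1 := fun h => by rw [h, orderOf_one] at hω; omega
  have hCE : ∀ i j : ℕ, (α ^ i * β ^ j) ^ 3 = 1 := fun i j => by
    rw [((Commute.pow_pow hc i j)).mul_pow, ← pow_mul, ← pow_mul, mul_comm i, mul_comm j, pow_mul, pow_mul,
      hα, hβ, one_pow, one_pow, one_mul]
  have hP : IsPGroup 3 (Subgroup.closure {α, β}) := by
    rintro ⟨x, hx⟩
    refine ⟨1, Subtype.ext ?_⟩
    rw [pow_one, SubmonoidClass.coe_pow, OneMemClass.coe_one]
    have hcomm : ∀ y ∈ Subgroup.closure {α, β}, ∀ z ∈ Subgroup.closure {α, β}, y * z = z * y := by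
      have h : IsMulCommutative (Subgroup.closure {α, β}) := Subgroup.isMulCommutative_closure (by
        intro x hx y hy
        rcases hx with rfl | rfl <;> rcases hy with rfl | rfl <;> first | rfl | exact hc | exact hc.symm)
      exact fun y hy z hz => congrArg Subtype.val (h.is_comm.comm ⟨y, hy⟩ ⟨z, hz⟩)
    induction hx using Subgroup.closure_induction with
    | mem y hy => rcases hy with rfl | rfl <;> assumption
    | one => simp
    | mul y z hy hz ihy ihz => rw [Commute.mul_pow (hcomm y hy z hz), ihy, ihz, one_mul]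
    | inv y _ ih => rw [inv_pow, ih, inv_one]
  obtain ⟨t, ht⟩ := conj_into_mon hq hP
  let κ : ↥(chevG2.group F) →* GL chevG2.Idx F :=
    (chevG2.group F).subtype.comp (MulAut.conj t⁻¹).toMonoidHom
  have hκinj : Function.Injective κ := fun x y h => (MulAut.conj t⁻¹).injective (Subtype.ext h)
  have hκM : ∀ p ∈ Subgroup.closure {α, β}, κ p ∈ chevG2.monomialSubgroup F := fun p hp => by
    simpa [κ] using Subgroup.mem_subgroupOf.mp (ht p hp)
  have htr : ∀ x g : ↥(chevG2.group F), tr (κ (g * x * g⁻¹)) = tr (κ x) := fun x g => by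
    rw [map_mul, map_mul, map_inv, tr_conj]
  have h5 : (5 : F) ≠ -1 := fun h => by
    have h6 : (2 : F) * 3 = 0 := by linear_combination h
    rcases mul_eq_zero.mp h6 with h | h
    · exact NeZero.ne (2 : F) h
    · exact NeZero.ne (3 : F) h
  -- a single long line
  obtain ⟨z, hzE, hzne, hz⟩ : ∃ z : ↥(chevG2.group F), z ∈ Subgroup.closure {α, β} ∧ z ≠ 1 ∧
      ∀ x ∈ Subgroup.closure {α, β}, x ≠ 1 → x ^ 3 = 1 → (tr (κ x) = 5 ↔ x = z ∨ x = z⁻¹) := by
    set E := Subgroup.closure {α, β}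
    have hαE : α ∈ E := Subgroup.subset_closure (Set.mem_insert α {β})
    have hβE : β ∈ E := Subgroup.subset_closure (Set.mem_insert_of_mem α rfl)
    have hne1 : ∀ {x}, x ≠ 1 → κ x ≠ 1 := fun h e => h (hκinj (e.trans (map_one κ).symm))
    have hcub : ∀ {x}, x ^ 3 = 1 → κ x ^ 3 = 1 := fun h => by rw [← map_pow, h, map_one]
    have inT : ∀ x, x ≠ 1 → x ^ 3 = 1 → κ x ∈ chevG2.diagonalSubgroup F → ∃ a b, (a ≠ 0 ∨ b ≠ 0) ∧
        κ x = torusHom chevG2 tblG2 F (par ω a b) ∧ (tr (κ x) = 5 ↔ IsLong a b) := by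
      intro x hx hx3 hxT
      obtain ⟨a, b, he⟩ := exists_par hω hxT (hcub hx3)
      have hab := par_ne he (hne1 hx)
      refine ⟨a, b, hab, he, ?_⟩
      have := trace_par hω3 hω1 hab
      rw [tr, he, this]
      split_ifs with h
      · exact ⟨fun _ => h, fun _ => rfl⟩
      · exact ⟨fun h' => absurd h'.symm h5, fun h' => absurd h' h⟩
    -- a long element in the torus
    obtain ⟨z, hzE, hz3, hz1, hzT, a₀, b₀, hab₀, hze, hlong⟩ : ∃ z, z ∈ E ∧ z ^ 3 = 1 ∧ z ≠ 1 ∧
        κ z ∈ chevG2.diagonalSubgroup F ∧ ∃ a b, (a ≠ 0 ∨ b ≠ 0) ∧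
          κ z = torusHom chevG2 tblG2 F (par ω a b) ∧ IsLong a b := by
      by_cases hall : κ α ∈ chevG2.diagonalSubgroup F ∧ κ β ∈ chevG2.diagonalSubgroup F
      · obtain ⟨a, b, hab, hea, -⟩ := inT α ha1 hα hall.1
        obtain ⟨c, d, hcd, heb, -⟩ := inT β hb1 hβ hall.2
        have hind : ¬((c = 0 ∧ d = 0) ∨ (c = a ∧ d = b) ∨ (c = -a ∧ d = -b)) := by
          rintro (⟨rfl, rfl⟩ | ⟨rfl, rfl⟩ | ⟨rfl, rfl⟩)
          · exact hcd.elim (· rfl) (· rfl)
          · exact hne (hκinj (heb.trans hea.symm))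
          · exact hne' (hκinj (by rw [heb, par_neg hω3, map_inv, map_inv, hea]))
        have h10 : κ (α * β) = torusHom chevG2 tblG2 F (par ω (a + c) (b + d)) := by
          rw [map_mul, hea, heb, par_add hω3, map_mul]
        have h20 : κ (α * β * β) = torusHom chevG2 tblG2 F (par ω (a + c + c) (b + d + d)) := by
          rw [map_mul, h10, heb, par_add hω3 (a + c) (b + d) c d, map_mul]
        have hnz : ∀ {x : ↥(chevG2.group F)} {p r : Fin 3}, κ x = torusHom chevG2 tblG2 F (par ω p r) →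
            x ≠ 1 → p ≠ 0 ∨ r ≠ 0 := fun he hx => par_ne he (hne1 hx)
        have hmemT : ∀ {x : ↥(chevG2.group F)} {p r : Fin 3}, κ x = torusHom chevG2 tblG2 F (par ω p r) →
            κ x ∈ chevG2.diagonalSubgroup F := fun he => by
          rw [he, ← torusHom_range cG]; exact ⟨_, rfl⟩
        rcases long_of_indep a b c d hab hind with h | h | h | h
        · exact ⟨α, hαE, hα, ha1, hall.1, a, b, hab, hea, h⟩
        · exact ⟨β, hβE, hβ, hb1, hall.2, c, d, hcd, heb, h⟩
        · have h1 : α * β ≠ 1 := fun e => hne' (eq_inv_of_mul_eq_one_right e)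
          exact ⟨α * β, mul_mem hαE hβE, by simpa using hCE 1 1, h1, hmemT h10, _, _, hnz h10 h1, h10, h⟩
        · have h1 : α * β * β ≠ 1 := fun e => hne (by
            have e2 : β * β = β⁻¹ := eq_inv_of_mul_eq_one_left (by rw [← pow_two, ← pow_succ]; exact hβ)
            rw [mul_assoc, e2, mul_inv_eq_one] at e
            exact e.symm)
          exact ⟨α * β * β, mul_mem (mul_mem hαE hβE) hβE, by simpa [pow_two, mul_assoc] using hCE 1 2, h1,
            hmemT h20, _, _, hnz h20 h1, h20, h⟩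
      · -- one element outside fixes an element inside
        obtain ⟨x, hxE, hx3, hxT⟩ : ∃ x ∈ E, x ^ 3 = 1 ∧ κ x ∉ chevG2.diagonalSubgroup F := by
          by_cases ha : κ α ∈ chevG2.diagonalSubgroup F
          · exact ⟨β, hβE, hβ, fun hb => hall ⟨ha, hb⟩⟩
          · exact ⟨α, hαE, hα, ha⟩
        obtain ⟨z, hzE, hz3, hz1, hzT⟩ : ∃ z ∈ E, z ^ 3 = 1 ∧ z ≠ 1 ∧ κ z ∈ chevG2.diagonalSubgroup F := by
          by_cases ha : κ α ∈ chevG2.diagonalSubgroup F
          · exact ⟨α, hαE, hα, ha1, ha⟩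
          by_cases hb : κ β ∈ chevG2.diagonalSubgroup F
          · exact ⟨β, hβE, hβ, hb1, hb⟩
          rcases outside_pair (hκM _ hαE) (hκM _ hβE) (by rw [hcub hα]; exact one_mem _)
            (by rw [hcub hβ]; exact one_mem _) ha hb with h | h
          · exact ⟨α * β, mul_mem hαE hβE, by simpa using hCE 1 1,
              fun e => hne' (eq_inv_of_mul_eq_one_right e), by rw [map_mul]; exact h⟩
          · refine ⟨α * β * β, mul_mem (mul_mem hαE hβE) hβE, by simpa [pow_two, mul_assoc] using hCE 1 2,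
              fun e => hne ?_, by rw [map_mul, map_mul]; exact h⟩
            have e2 : β * β = β⁻¹ := eq_inv_of_mul_eq_one_left (by rw [← pow_two, ← pow_succ]; exact hβ)
            rw [mul_assoc, e2, mul_inv_eq_one] at e
            exact e.symm
        obtain ⟨a, b, hab, hze, -⟩ := inT z hz1 hz3 hzT
        refine ⟨z, hzE, hz3, hz1, hzT, a, b, hab, hze,
          fixed_long hω (hκM _ hxE) (hcub hx3) hxT hab ?_⟩
        have hcm : x * z = z * x := by
          have h : IsMulCommutative E := Subgroup.isMulCommutative_closure (by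
            intro x hx y hy
            rcases hx with rfl | rfl <;> rcases hy with rfl | rfl <;> first | rfl | exact hc | exact hc.symm)
          exact congrArg Subtype.val (h.is_comm.comm ⟨x, hxE⟩ ⟨z, hzE⟩)
        rw [← hze, ← map_mul, hcm, map_mul]
    refine ⟨z, hzE, hz1, fun x hxE hx1 hx3 => ⟨fun h => ?_, ?_⟩⟩
    · by_cases hxT : κ x ∈ chevG2.diagonalSubgroup F
      · obtain ⟨a, b, hab, hxe, hiff⟩ := inT x hx1 hx3 hxT
        rcases long_unique a₀ b₀ a b hab₀ hab hlong (hiff.mp h) with ⟨rfl, rfl⟩ | ⟨rfl, rfl⟩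
        · exact Or.inl (hκinj (hxe.trans hze.symm))
        · exact Or.inr (hκinj (by rw [hxe, par_neg hω3, map_inv, map_inv, hze]))
      · obtain ⟨-, -, -, -, htr1, -⟩ := outside (hκM _ hxE) (hcub hx3) hxT
        exact absurd (h.symm.trans htr1) h5
    · rintro (rfl | rfl)
      · rw [tr, hze, trace_par hω3 hω1 hab₀, if_pos hlong]
      · have hl : IsLong (-a₀) (-b₀) := long_neg a₀ b₀ hlong
        have hab' : -a₀ ≠ 0 ∨ -b₀ ≠ 0 := hab₀.imp neg_ne_zero.mpr neg_ne_zero.mpr
        rw [tr, map_inv, hze, ← map_inv, ← par_neg hω3, trace_par hω3 hω1 hab', if_pos hl]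
  -- the orbits of the normalising element
  have hαE : α ∈ Subgroup.closure {α, β} := Subgroup.subset_closure (Set.mem_insert α {β})
  have hβE : β ∈ Subgroup.closure {α, β} := Subgroup.subset_closure (Set.mem_insert_of_mem α rfl)
  have e2 : σ * (σ * α * σ⁻¹) * σ⁻¹ = α⁻¹ := by rw [hσα, hσβ]
  have hαβ3 : (α * β) ^ 3 = 1 := by simpa using hCE 1 1
  have hαβ'3 : (α * β⁻¹) ^ 3 = 1 := by
    rw [(Commute.inv_right hc).mul_pow, hα, inv_pow, hβ, inv_one, one_mul]
  have hd1 : α * β ≠ 1 := fun h => hne' (eq_inv_of_mul_eq_one_right h)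
  have hd1' : α * β⁻¹ ≠ 1 := fun h => hne (mul_inv_eq_one.mp h).symm
  have i1 := hz α hαE ha1 hα
  have i2 := hz β hβE hb1 hβ
  have i3 := hz (α * β) (mul_mem hαE hβE) hd1 hαβ3
  have i4 := hz (α * β⁻¹) (mul_mem hαE (inv_mem hβE)) hd1' hαβ'3
  have tA : tr (κ β) = tr (κ α) := by rw [← hσα, htr]
  have tB : tr (κ (α * β⁻¹)) = tr (κ (α * β)) := by
    have e : σ * (σ * (σ * (α * β) * σ⁻¹) * σ⁻¹) * σ⁻¹ = α * β⁻¹ := by
      have s1 : σ * (α * β) * σ⁻¹ = β * α⁻¹ := by rw [← conj_mul, hσα, hσβ]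
      have s2 : σ * (β * α⁻¹) * σ⁻¹ = α⁻¹ * β⁻¹ := by rw [← conj_mul, hσβ, ← conj_inv, hσα]
      have s3 : σ * (α⁻¹ * β⁻¹) * σ⁻¹ = β⁻¹ * α := by
        rw [← conj_mul, ← conj_inv, hσα, ← conj_inv, hσβ, inv_inv]
      rw [s1, s2, s3]
      exact ((Commute.inv_left (Commute.symm hc)).eq)
    rw [← e, htr, htr, htr]
  have hαsq : α⁻¹ ≠ α := fun h => ha1 (by
    have : α * α = 1 := by nth_rw 2 [← h]; exact mul_inv_cancel α
    rw [pow_succ, pow_two, this, one_mul] at hα
    exact hα)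
  -- where is the long line
  have hz3 : z = α ∨ z = α⁻¹ ∨ z = β ∨ z = β⁻¹ ∨ z = α * β ∨ z = (α * β)⁻¹ ∨ z = α * β⁻¹ ∨ z = (α * β⁻¹)⁻¹ ∨
      z = 1 := by
    have hmem : ∀ x ∈ Subgroup.closure {α, β}, ∃ i j : ℕ, x = α ^ i * β ^ j := by
      intro x hx
      induction hx using Subgroup.closure_induction with
      | mem y hy =>
        rcases hy with rfl | rfl
        · exact ⟨1, 0, by simp⟩
        · exact ⟨0, 1, by simp⟩
      | one => exact ⟨0, 0, by simp⟩
      | mul y w _ _ ihy ihw =>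
        obtain ⟨i, j, rfl⟩ := ihy
        obtain ⟨k, l, rfl⟩ := ihw
        refine ⟨i + k, j + l, ?_⟩
        rw [pow_add, pow_add, mul_assoc, ← mul_assoc (β ^ j), (Commute.pow_pow (Commute.symm hc) j k).eq]
        group
      | inv y _ ih =>
        obtain ⟨i, j, rfl⟩ := ih
        refine ⟨2 * i, 2 * j, inv_eq_of_mul_eq_one_right ?_⟩
        rw [mul_assoc, ← mul_assoc (β ^ j), (Commute.pow_pow (Commute.symm hc) j (2 * i)).eq,
          show α ^ i * (α ^ (2 * i) * β ^ j * β ^ (2 * j)) = α ^ (3 * i) * β ^ (3 * j) by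
            rw [mul_assoc, ← pow_add, ← mul_assoc, ← pow_add]; congr 2 <;> ring,
          pow_mul, pow_mul, hα, hβ, one_pow, one_pow, one_mul]
    obtain ⟨i, j, hij⟩ := hmem z hzE
    have ha2 : α ^ 2 = α⁻¹ := eq_inv_of_mul_eq_one_left (by rw [← pow_succ]; exact hα)
    have hb2 : β ^ 2 = β⁻¹ := eq_inv_of_mul_eq_one_left (by rw [← pow_succ]; exact hβ)
    rw [pow_eq_pow_mod i hα, pow_eq_pow_mod j hβ] at hij
    have hi : i % 3 < 3 := Nat.mod_lt _ (by norm_num)
    have hj : j % 3 < 3 := Nat.mod_lt _ (by norm_num)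
    have hcab : α⁻¹ * β⁻¹ = (α * β)⁻¹ := by rw [mul_inv_rev]; exact ((Commute.inv_inv hc).eq)
    have hcab' : α⁻¹ * β = (α * β⁻¹)⁻¹ := by
      rw [mul_inv_rev, inv_inv]; exact ((Commute.inv_left hc).eq)
    interval_cases h1 : i % 3 <;> interval_cases h2 : j % 3 <;>
      simp only [pow_zero, pow_one, one_mul, mul_one, ha2, hb2, hcab, hcab'] at hij <;> simp [hij]
  have hcase : ∀ {x y : ↥(chevG2.group F)}, (x = z ∨ x = z⁻¹) → (y = z ∨ y = z⁻¹) → y = x ∨ y = x⁻¹ := by
    rintro x y (rfl | rfl) (rfl | rfl) <;> simp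
  rcases hz3 with h | h | h | h | h | h | h | h | h
  · have h' : β = z ∨ β = z⁻¹ := i2.mp (by rw [tA]; exact i1.mpr (Or.inl h.symm))
    exact (hcase (Or.inl h.symm) h').elim hne hne'
  · have hz' : α = z ∨ α = z⁻¹ := Or.inr (by rw [h, inv_inv])
    have h' : β = z ∨ β = z⁻¹ := i2.mp (by rw [tA]; exact i1.mpr hz')
    exact (hcase hz' h').elim hne hne'
  · have h' : α = z ∨ α = z⁻¹ := i1.mp (by rw [← tA]; exact i2.mpr (Or.inl h.symm))
    exact (hcase h' (Or.inl h.symm)).elim hne hne'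
  · have hz' : β = z ∨ β = z⁻¹ := Or.inr (by rw [h, inv_inv])
    have h' : α = z ∨ α = z⁻¹ := i1.mp (by rw [← tA]; exact i2.mpr hz')
    exact (hcase h' hz').elim hne hne'
  all_goals try
    have hbb : β * β ≠ 1 := fun e => hb1 (by rw [pow_succ, pow_two, e, one_mul] at hβ; exact hβ)
  iterate 4
    · have hz' : (α * β = z ∨ α * β = z⁻¹) ∨ (α * β⁻¹ = z ∨ α * β⁻¹ = z⁻¹) := by
        rw [h]; simp
      have hboth : (α * β = z ∨ α * β = z⁻¹) ∧ (α * β⁻¹ = z ∨ α * β⁻¹ = z⁻¹) := by
        rcases hz' with h' | h'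
        · exact ⟨h', i4.mp (by rw [tB]; exact i3.mpr h')⟩
        · exact ⟨i3.mp (by rw [← tB]; exact i4.mpr h'), h'⟩
      rcases hcase hboth.1 hboth.2 with e | e
      · have e' := mul_left_cancel e
        exact hbb (by nth_rw 1 [← e']; exact inv_mul_cancel β)
      · rw [mul_inv_rev, ← (Commute.inv_inv hc).eq, mul_left_inj] at e
        exact hαsq e.symm
  · exact hzne h

end Three

end Cfsg.Lib.Chev.G2Alt
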