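import Cfsg.Agent.Lib.Chev.G2Alt.Monomial
import Cfsg.Agent.Lib.Chev.OrderG2
import Cfsg.Agent.Lib.Chev.DescentAut
import Cfsg.Agent.Lib.Chev.InvG2

/-!
Elements of order three in the monomial subgroup of `G₂`: exactly one cyclic subgroup of each elementary
group of order nine has trace `5`, the others have trace `-1`.
-/

set_option autoImplicit false
set_option linter.unusedSectionVars false
set_option maxRecDepth 100000

namespace Cfsg.Lib.Chev.G2Alt

open Cfsg.Lie
open scoped Matrix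

private theorem cG : Cert chevG2 tblG2 := fullCertG2.comm.cert

/-- The Weyl words. -/
noncomputable def wordsG2 : List (List ℕ) := allW (nth ([], []) weylG2) chevG2.rank

theorem expG2 : ∀ u ∈ wordsG2, ∀ k < chevG2.rank,
    wperm tblG2 (List.replicate 6 u).flatten (tblG2.simp' k) = tblG2.simp' k := by decide +kernel

/-- The residue of the character of an element of order three at a root. -/
def resid (a b : Fin 3) (s : ℕ) : ℕ :=
  (((a.val : ℤ) * tblG2.cartan 0 s + (b.val : ℤ) * tblG2.cartan 1 s) % 3).toNat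

/-- The number of roots with a given residue. -/
def cnt (a b : Fin 3) (i : ℕ) : ℕ := ((List.range chevG2.nroots).filter fun s => resid a b s == i).length

/-- The exponents of long type. -/
def IsLong (a b : Fin 3) : Prop := cnt a b 0 = 6

instance (a b : Fin 3) : Decidable (IsLong a b) := inferInstanceAs (Decidable (_ = _))

theorem counts : ∀ a b : Fin 3, (a ≠ 0 ∨ b ≠ 0) →
    (cnt a b 0 = 6 ∧ cnt a b 1 = 3 ∧ cnt a b 2 = 3) ∨ (cnt a b 0 = 2 ∧ cnt a b 1 = 5 ∧ cnt a b 2 = 5) := by
  decide +kernel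

theorem long_unique : ∀ a b c d : Fin 3, (a ≠ 0 ∨ b ≠ 0) → (c ≠ 0 ∨ d ≠ 0) → IsLong a b → IsLong c d →
    (c = a ∧ d = b) ∨ (c = -a ∧ d = -b) := by decide +kernel

theorem long_of_indep : ∀ a b c d : Fin 3, (a ≠ 0 ∨ b ≠ 0) →
    ¬((c = 0 ∧ d = 0) ∨ (c = a ∧ d = b) ∨ (c = -a ∧ d = -b)) →
    IsLong a b ∨ IsLong c d ∨ IsLong (a + c) (b + d) ∨ IsLong (a + c + c) (b + d + d) := by decide +kernel

/-- A word of order three. -/
def IsThree (u : List ℕ) : Prop :=
  (∀ k < chevG2.rank, wperm tblG2 (List.replicate 3 u).flatten (tblG2.simp' k) = tblG2.simp' k) ∧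
    ¬∀ k < chevG2.rank, wperm tblG2 u (tblG2.simp' k) = tblG2.simp' k

instance (u : List ℕ) : Decidable (IsThree u) := inferInstanceAs (Decidable (_ ∧ _))

theorem three_free : ∀ u ∈ wordsG2, IsThree u →
    (∀ s < chevG2.nroots, wperm tblG2 u s ≠ s) ∧
      Matrix.trace (u.map (cartBlock chevG2 tblG2)).prod = -1 := by decide +kernel

theorem three_fixed : ∀ u ∈ wordsG2, IsThree u → ∀ a b : Fin 3,
    (∀ s < chevG2.nroots, resid a b (wperm tblG2 u s) = resid a b s) → (a ≠ 0 ∨ b ≠ 0) → IsLong a b := by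
  decide +kernel

theorem three_pair : ∀ u ∈ wordsG2, IsThree u → ∀ v ∈ wordsG2, IsThree v →
    (∀ k < chevG2.rank, wperm tblG2 (u ++ v) (tblG2.simp' k) = tblG2.simp' k) ∨
      ∀ k < chevG2.rank, wperm tblG2 (u ++ v ++ v) (tblG2.simp' k) = tblG2.simp' k := by decide +kernel

variable {F : Type*} [Field F]

/-- Parameters of an element of order dividing three. -/
def par (ω : Fˣ) (a b : Fin 3) : Fin chevG2.rank → Fˣ := fun i => if i.val = 0 then ω ^ a.val else ω ^ b.val

theorem par_add {ω : Fˣ} (hω : ω ^ 3 = 1) (a b c d : Fin 3) :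
    par ω (a + c) (b + d) = par ω a b * par ω c d := by
  funext i
  simp only [par, Pi.mul_apply]
  split_ifs <;> simp [Fin.val_add, ← pow_add, ← pow_eq_pow_mod _ hω]

theorem par_zero (ω : Fˣ) : par ω 0 0 = 1 := by
  funext i
  simp only [par, Pi.one_apply]
  split_ifs <;> simp

theorem par_neg {ω : Fˣ} (hω : ω ^ 3 = 1) (a b : Fin 3) : par ω (-a) (-b) = (par ω a b)⁻¹ := by
  refine eq_inv_of_mul_eq_one_left ?_
  rw [← par_add hω, neg_add_cancel, neg_add_cancel, par_zero]

theorem chr_par {ω : Fˣ} (hω : ω ^ 3 = 1) (a b : Fin 3) (s : ℕ) :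
    chr tblG2 chevG2 (extend' (par ω a b)) s = ((ω ^ resid a b s : Fˣ) : F) := by
  have h : ∀ z : ℤ, (ω : Fˣ) ^ z = ω ^ (z % 3).toNat := by
    intro z
    conv_lhs => rw [← Int.emod_add_mul_ediv z 3, zpow_add, zpow_mul]
    rw [show (ω : Fˣ) ^ (3 : ℤ) = 1 from by exact_mod_cast hω, one_zpow, mul_one,
      ← zpow_natCast ω (z % 3).toNat, Int.toNat_of_nonneg (Int.emod_nonneg _ (by norm_num))]
  rw [chr, show chevG2.rank = 2 from rfl, Finset.prod_range_succ, Finset.prod_range_one, resid, ← h,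
    zpow_add, zpow_mul, zpow_mul, zpow_natCast, zpow_natCast, Units.val_mul, Units.val_zpow_eq_zpow_val,
    Units.val_zpow_eq_zpow_val]
  simp [extend', par, show 0 < chevG2.rank from by decide, show 1 < chevG2.rank from by decide]

theorem sum_pow_residues (g : ℕ → ℕ) (z : F) : ∀ l : List ℕ, (∀ s, g s < 3) →
    (l.map fun s => z ^ g s).sum = ((l.filter fun s => g s == 0).length : F) +
      ((l.filter fun s => g s == 1).length : F) * z + ((l.filter fun s => g s == 2).length : F) * z ^ 2 := by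
  intro l hg
  induction l with
  | nil => simp
  | cons s l ih =>
    rw [List.map_cons, List.sum_cons, ih]
    have hs : g s = 0 ∨ g s = 1 ∨ g s = 2 := by have := hg s; omega
    rcases hs with h | h | h <;> simp [h] <;> ring

theorem trace_par {ω : Fˣ} (hω : ω ^ 3 = 1) (hne : ω ≠ 1) {a b : Fin 3} (hab : a ≠ 0 ∨ b ≠ 0) :
    Matrix.trace ((torusHom chevG2 tblG2 F (par ω a b) : GL chevG2.Idx F) : Matrix chevG2.Idx chevG2.Idx F) =
      if IsLong a b then 5 else -1 := by
  rw [trace_torus, show ∑ s ∈ Finset.range chevG2.nroots, chr tblG2 chevG2 (extend' (par ω a b)) s =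
    ((List.range chevG2.nroots).map fun s => (ω : F) ^ resid a b s).sum from by
      rw [← List.toFinset_range, List.sum_toFinset _ List.nodup_range]
      exact congrArg List.sum (List.map_congr_left fun s _ => by
        rw [chr_par hω, Units.val_pow_eq_pow_val]),
    sum_pow_residues _ _ _ fun s => by
      have := Int.emod_lt_of_pos ((a.val : ℤ) * tblG2.cartan 0 s + (b.val : ℤ) * tblG2.cartan 1 s)
        (by norm_num : (0 : ℤ) < 3)
      unfold resid
      omega]
  have hz : 1 + (ω : F) + (ω : F) ^ 2 = 0 := by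
    have h3 : (ω : F) ^ 3 = 1 := by rw [← Units.val_pow_eq_pow_val, hω, Units.val_one]
    have h1 : (ω : F) - 1 ≠ 0 := sub_ne_zero.mpr fun h => hne (Units.ext h)
    refine (mul_eq_zero.mp ?_).resolve_left h1
    linear_combination h3
  rw [show (chevG2.rank : F) = 2 by norm_num [show chevG2.rank = 2 from rfl]]
  rcases counts a b hab with ⟨h0, h1, h2⟩ | ⟨h0, h1, h2⟩ <;>
    (unfold cnt at h0 h1 h2; rw [h0, h1, h2])
  · rw [if_pos (show IsLong a b from h0)]
    push_cast
    linear_combination 3 * hz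
  · rw [if_neg (fun h : IsLong a b => by unfold IsLong cnt at h; omega)]
    push_cast
    linear_combination 5 * hz

variable [Fintype F]

theorem exists_par {ω : Fˣ} (hω : orderOf ω = 3) {x : GL chevG2.Idx F}
    (hx : x ∈ chevG2.diagonalSubgroup F) (hx3 : x ^ 3 = 1) :
    ∃ a b : Fin 3, x = torusHom chevG2 tblG2 F (par ω a b) := by
  rw [← torusHom_range cG] at hx
  obtain ⟨c, rfl⟩ := hx
  have h3 : c ^ 3 = 1 := g2_torus_injective (by rw [map_pow, hx3, map_one])
  have hc : ∀ i, ∃ a : Fin 3, c i = ω ^ a.val := by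
    intro i
    have hi : c i ^ 3 = 1 := congrFun h3 i
    have hroot : IsPrimitiveRoot (ω : F) 3 := by
      rw [← hω, ← orderOf_units]; exact IsPrimitiveRoot.orderOf _
    obtain ⟨a, ha, hae⟩ := hroot.eq_pow_of_pow_eq_one (ξ := (c i : F))
      (by rw [← Units.val_pow_eq_pow_val, hi, Units.val_one])
    exact ⟨⟨a, ha⟩, Units.ext (by rw [Units.val_pow_eq_pow_val]; exact hae.symm)⟩
  obtain ⟨a, ha⟩ := hc ⟨0, by decide⟩
  obtain ⟨b, hb⟩ := hc ⟨1, by decide⟩
  refine ⟨a, b, congrArg _ (funext fun i => ?_)⟩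
  fin_cases i
  · exact ha
  · exact hb

/-- The trace of an element. -/
noncomputable def tr (x : GL chevG2.Idx F) : F := Matrix.trace (x : Matrix chevG2.Idx chevG2.Idx F)

theorem tr_conj (g x : GL chevG2.Idx F) : tr (g * x * g⁻¹) = tr x := by
  simp only [tr, Units.val_mul]
  exact Matrix.trace_units_conj g _

/-- An element of order three in the monomial subgroup outside the torus. -/
theorem outside {x : GL chevG2.Idx F} (hx : x ∈ chevG2.monomialSubgroup F) (hx3 : x ^ 3 = 1)
    (hxT : x ∉ chevG2.diagonalSubgroup F) :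
    ∃ u ∈ wordsG2, IsWord chevG2 u ∧ IsThree u ∧ tr x = -1 ∧
      ∃ d ∈ chevG2.diagonalSubgroup F, x = wnu cG F u * d := by
  obtain ⟨u, hu, huw, d, hd, rfl⟩ := monomial_word cG fullCertG2 chkWeylG2 hx
  have h3 : IsThree u := by
    obtain ⟨hw, d', hd', he⟩ := monomial_pow cG huw hd 3
    refine ⟨fun k hk => ?_, fun h => hxT (mul_mem (wnu_mem_diag cG fullCertG2 huw h) hd)⟩
    have hmem : (wnu cG F [])⁻¹ * wnu cG F (List.replicate 3 u).flatten ∈ chevG2.diagonalSubgroup F := by
      rw [show wnu cG F ([] : List ℕ) = 1 by simp [wnu], inv_one, one_mul,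
        show wnu cG F (List.replicate 3 u).flatten = d'⁻¹ from eq_inv_of_mul_eq_one_left (by rw [← he, hx3])]
      exact inv_mem hd'
    exact (perm_of_same cG (fun i hi => absurd hi List.not_mem_nil) hw hmem (cG.spec.simp_lt k hk)).symm
  obtain ⟨hfree, htr⟩ := three_free u hu h3
  refine ⟨u, hu, huw, h3, ?_, d, hd, rfl⟩
  rw [← torusHom_range cG] at hd
  obtain ⟨c, rfl⟩ := hd
  rw [tr, trace_monomial cG huw hfree, htr]
  norm_num

theorem fixed_long {ω : Fˣ} (hω : orderOf ω = 3) {x : GL chevG2.Idx F}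
    (hx : x ∈ chevG2.monomialSubgroup F) (hx3 : x ^ 3 = 1) (hxT : x ∉ chevG2.diagonalSubgroup F)
    {a b : Fin 3} (hab : a ≠ 0 ∨ b ≠ 0)
    (hc : x * torusHom chevG2 tblG2 F (par ω a b) = torusHom chevG2 tblG2 F (par ω a b) * x) : IsLong a b := by
  have h3 : ω ^ 3 = 1 := hω ▸ pow_orderOf_eq_one ω
  obtain ⟨u, hu, huw, h3u, -, d, hd, rfl⟩ := outside hx hx3 hxT
  set z := torusHom chevG2 tblG2 F (par ω a b)
  obtain ⟨e, he, hchr⟩ := torus_word_conj cG huw (par ω a b)
  have hzT : z ∈ chevG2.diagonalSubgroup F := by rw [← torusHom_range cG]; exact ⟨_, rfl⟩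
  have : wnu cG F u * z * (wnu cG F u)⁻¹ = z := by
    rw [mul_inv_eq_iff_eq_mul]
    refine mul_right_cancel (b := d) ?_
    rw [mul_assoc, diag_commute cG hzT hd, ← mul_assoc, hc, mul_assoc]
  rw [he] at this
  obtain rfl : e = par ω a b := g2_torus_injective this
  refine three_fixed u hu h3u a b (fun s hs => ?_) hab
  have h := hchr s hs
  rw [chr_par h3, chr_par h3, Units.val_inj] at h
  have hlt : ∀ t, resid a b t < 3 := fun t => by
    have := Int.emod_lt_of_pos ((a.val : ℤ) * tblG2.cartan 0 t + (b.val : ℤ) * tblG2.cartan 1 t)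
      (by norm_num : (0 : ℤ) < 3)
    unfold resid
    omega
  exact pow_injOn_Iio_orderOf (by rw [hω]; exact hlt _) (by rw [hω]; exact hlt _) h

end Cfsg.Lib.Chev.G2Alt
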